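import Cfsg.Agent.Mrg.Omega.NOThree.LL.Mover
import Cfsg.Agent.Mrg.Omega.NOThree.LL.HasD
import Cfsg.Agent.Mrg.Omega.NOThree.LL.InstOne
import Cfsg.Agent.Mrg.Omega.NO3S.Pt.Path
import Cfsg.Agent.Mrg.Omega.NO3S.TwoFar.NoOv

section


/-!
# TwoFar, THEOREM LL (#18157): there is no grandchild

* `Free V m y` : no element of `R = [W_p, W_q]` is a point collinear with `p` (section 3 for the grandchildren);
* `no_gr_of` : sections 4, 5.
-/

set_option autoImplicit false
set_option linter.unusedSectionVars false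

namespace Cfsg.Agent.Omega.NOThree.LL

open Subgroup Cfsg Cfsg.Agent.ZN Cfsg.Agent.MinSimple.Geo Cfsg.Agent.Omega.CaseL Cfsg.Agent.Omega.NO3S.TwoOne
open Cfsg.Agent.Omega.NO3S.Pt
open Cfsg.Agent.Omega.NO3S.TwoMid (rr comm_mem_rr rr_comm)
open Cfsg.Agent.Omega.NOThree.SecOne (Exact ee mem_ee)
open Cfsg.Agent.Omega.NOThree.TF (Md conj_mem_ws_of_mem MM pim md_MM)
open Cfsg.Agent.Omega.NOThree.LemmaM (NoOver)

universe u

variable {G : Type u} [Group G] {T V : Subgroup G} {z : G} {m : ℕ} {y : ℕ → G}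

/-- no element of `R = [W_p, W_q]` is a point collinear with `p` -/
def Free (V : Subgroup G) (m : ℕ) (y : ℕ → G) : Prop := ∀ e ∈ rr V (y 0) (y (m + 3)), ¬ Col V (y 0) e

/-- the output of THEOREM ONE -/
theorem trAt_of [Finite G] (s : St T V z m y (pim V (y 0))) (hno : NoHP V (y 0) (pim V (y 0))) (free : Free V m y) :
    TrAt V m y := by
  obtain ⟨g, hp, hx, hp1, hx1⟩ := s.gg.col0
  obtain ⟨U, hU⟩ := TF.Md.exists_U s.fr s.md hp hp1
  obtain ⟨t, c, h1, h2, h3, h4⟩ := s.exists_tr hno free hp hx hU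
  exact ⟨g, t, c, hp, hx, h1, h2, (hU c).1 h3, h4⟩

/-- (1.1) for the free pairs: every `f` has a mover with (D) -/
theorem mover_of_free [Finite G] (s : St T V z m y (pim V (y 0))) (free : Free V m y) {f : G}
    (hf : f ∈ ws V (y (m + 3))) (hfE : f ∉ ee V (y (m + 3)) (y 0)) : ∃ x, Mv V (m + 3) y x f ∧ DD V (y 0) x f := by
  rcases s.mover_or hf (fun hc => hfE (mem_ee.2 ⟨hf, fun b hb => mem_centralizer_iff.1 hc b hb |>.symm⟩)) with h1 | h1
  · exact h1
  · exfalso
    obtain ⟨g, hp, hx, hp1, hx1⟩ := s.gg.col0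
    rcases h1 with h1 | h1
    · exact free _ h1 s.gg.col0
    · refine free _ h1 (Col.of_mem hp (mul_mem hp hx) hp1 fun e => ?_)
      apply s.ne1
      calc y 1 = y 0 * y 0 * y 1 := by rw [s.fr.pt_sq s.hp, one_mul]
        _ = y 0 := by rw [mul_assoc, e, mul_one]

/-- **there is no grandchild** -/
theorem no_gr_of [Finite G] (hf : Fr T V z)
    (hNO : NoOver (NO3S.TwoFar.inc (V := V)) NO3S.TwoFar.RR NO3S.TwoFar.WS NO3S.TwoFar.VL)
    (hno : ∀ p, Col V p p → NoHP V p (pim V p)) (hfree : ∀ y, Gr V m y → Free V m y) (y : ℕ → G) : ¬ Gr V m y := by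
  have key : ∀ y, Gr V m y → St T V z m y (pim V (y 0)) := fun y h =>
    ⟨hf, hNO, h.gg, md_MM hf h.gg.cr.path.left⟩
  have key' : ∀ y, Gr V m y → TrAt V m y := fun y h =>
    trAt_of (key y h) (hno _ h.gg.cr.path.left) (hfree y h)
  refine no_gr hf hNO (fun y h => blockAt_of_tr hf h.gg (key' y h)) (fun y h => ?_) (fun y h f hfq hfE => ?_) y
  · exact two_of_tr hf h.gg (key' y h) fun a ha b hb => hfree y h _ (comm_mem_rr ha hb)
  · exact mover_of_free (key y h) (hfree y h) hfq hfE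

end Cfsg.Agent.Omega.NOThree.LL

end

section


/-!
# TwoFar, THEOREM LL (#18157): (2.2) and section 3

* `Child.rr_le` (2.2) : `R_x ≤ W_x ∩ W_p ∩ W_{q'} ∩ W_{x^f} ∩ W_{y 1}`, `Child.not_mem` : `x p ∉ R_x`;
* `Gr.free` (section 3) : a grandchild is free.
-/

set_option autoImplicit false
set_option linter.unusedSectionVars false

namespace Cfsg.Agent.Omega.NOThree.LL

open Subgroup Cfsg Cfsg.Agent.ZN Cfsg.Agent.MinSimple.Geo Cfsg.Agent.Omega.CaseL Cfsg.Agent.Omega.NO3S.TwoOne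
open Cfsg.Agent.Omega.NO3S.Pt
open Cfsg.Agent.Omega.NO3S.TwoMid (rr comm_mem_rr rr_comm)

universe u

variable {G : Type u} [Group G] {T V : Subgroup G} {z : G} {m : ℕ} {y : ℕ → G} {x f x' f' : G}

/-- `[W_p, W_q] ≤ W_p` for critical pairs -/
theorem rr_le_left [Finite G] {n : ℕ} {p q : G} (h : Fr T V z) (hc : Cr V (n + 1) p q) : rr V p q ≤ ws V p := by
  unfold NO3S.TwoMid.rr
  rw [closure_le]
  rintro _ ⟨a, ha, b, hb, rfl⟩
  exact hc.comm_mem_left h ha hb

theorem rr_le_right [Finite G] {n : ℕ} {p q : G} (h : Fr T V z) (hc : Cr V (n + 1) p q) : rr V p q ≤ ws V q := by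
  unfold NO3S.TwoMid.rr
  rw [closure_le]
  rintro _ ⟨a, ha, b, hb, rfl⟩
  exact hc.comm_mem_right h ha hb

theorem GG.rr_le_one {n : ℕ} (gg : GG V n y) : rr V (y 0) (y n) ≤ ws V (y 1) := by
  unfold NO3S.TwoMid.rr
  rw [closure_le]
  rintro _ ⟨a, ha, b, hb, rfl⟩
  exact gg.le a ha b hb

/-- (2.2), the first part -/
theorem Child.rr_le [Finite G] (h : Fr T V z) (gg : GG V (m + 3) y) (c : Child V m y x f) {e : G}
    (he : e ∈ rr V x (y (m + 2))) :
    e ∈ ws V x ∧ e ∈ ws V (y 0) ∧ e ∈ ws V (y (m + 2)) ∧ f * e = e * f ∧ e ∈ ws V (y 1) := by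
  have h1 : e ∈ ws V x := rr_le_left h c.gg.cr he
  have h2 : e ∈ ws V (y (m + 2)) := rr_le_right h c.gg.cr he
  have h3 : e ∈ ws V (y 0) := c.gg.rr_le_one he
  have h4 : f * e = e * f :=
    (gg.com (i := m + 2) (j := m + 3) (by omega) le_rfl (by omega) (by omega) e h2 f c.mv.mem).symm
  exact ⟨h1, h3, h2, h4, c.mv.cen e h1 h3 h4⟩

/-- (2.2), the second part -/
theorem Child.not_mem [Finite G] (h : Fr T V z) (gg : GG V (m + 3) y) (c : Child V m y x f) :
    x * y 0 ∉ rr V x (y (m + 2)) := by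
  intro he
  obtain ⟨-, -, -, -, h5⟩ := c.rr_le h gg he
  have h6 : y 0 ∈ ws V (y 1) := h.mem_ws_of_col gg.col0.symm
  have h7 : x ∈ ws V (y 1) := by
    have := mul_mem h5 (inv_mem h6)
    rwa [mul_inv_cancel_right] at this
  apply c.mv.mv
  exact NO3S.Dual.conj_eq_of_comm
    (gg.com (i := 1) (j := m + 3) (by omega) le_rfl (by omega) (by omega) x h7 f c.mv.mem).symm

/-- **section 3** -/
theorem Gr.free [Finite G] (h : Fr T V z) (hg : Gr V m y) : Free V m y := by
  obtain ⟨y₀, x, f, x', f', g0, c1, c2, rfl⟩ := hg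
  intro e he hcol
  have he' : e ∈ rr V x' (y₀ (m + 1)) := he
  -- (a)
  obtain ⟨h1, h2, h3, h4, h5⟩ := c2.rr_le h c1.gg he'
  have h2' : e ∈ ws V x := h2
  have h3' : e ∈ ws V (y₀ (m + 1)) := h3
  have h5' : e ∈ ws V (y₀ 0) := h5
  -- (b)
  have h6 : f * e = e * f :=
    (g0.com (i := m + 1) (j := m + 3) (by omega) le_rfl (by omega) (by omega) e h3' f c1.mv.mem).symm
  have h7 : e ∈ ws V (y₀ 1) := c1.mv.cen e h2' h5' h6
  -- (c)
  have hne1 : e ≠ x := by
    rintro rfl
    exact c1.mv.mv (NO3S.Dual.conj_eq_of_comm h6)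
  have hne2 : e ≠ x' := by
    rintro rfl
    exact c2.gg.not_mem h3'
  have hne21 : e ≠ x' * x := by
    rintro rfl
    exact c2.not_mem h c1.gg he'
  -- (d)
  exact grand_path h g0.path g0.cr c1.gg.cr c2.gg.cr c1.mv.col.symm c2.mv.col.symm h1 h2' h5' h7 hne1 hne2 hne21
    hcol.symm

/-- **there is no grandchild** -/
theorem no_gr' [Finite G] (hf : Fr T V z)
    (hNO : LemmaM.NoOver (NO3S.TwoFar.inc (V := V)) NO3S.TwoFar.RR NO3S.TwoFar.WS NO3S.TwoFar.VL)
    (hno : ∀ p, Col V p p → NoHP V p (TF.pim V p)) (y : ℕ → G) : ¬ Gr V m y :=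
  no_gr_of hf hNO hno (fun _ h => h.free hf) y

end Cfsg.Agent.Omega.NOThree.LL

end

section


/-!
# TwoFar, THEOREM LL (#18157): there is no GOAL pair

* `noB_of_noHP` : `NoB V` (855's form of (NO)) from `NoHP` (543's form);
* `no_gg` : **THEOREM LL**: no GOAL pair (`n ≥ 3`), from (NO); `no_goal` : in the form of `SecOne.Goal`;
* `no_gg_of_mlk`, `no_goal_of_mlk` : from (ML) for the K-groups.
-/

set_option autoImplicit false
set_option linter.unusedSectionVars false

namespace Cfsg.Agent.Omega.NOThree.LL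

open Subgroup Cfsg Cfsg.Agent.ZN Cfsg.Agent.MinSimple.Geo Cfsg.Agent.Omega.CaseL Cfsg.Agent.Omega.NO3S.TwoOne
open Cfsg.Agent.Omega.NO3S.Pt
open Cfsg.Agent.Omega.NOThree.SecOne (Goal)
open Cfsg.Agent.Omega.NOThree.TF (Md conj_mem_ws_of_mem MM pim md_MM)
open Cfsg.Agent.Omega.NOThree.LemmaM (NoOver)

universe u

variable {G : Type u} [Group G] {T V : Subgroup G} {z : G} {m : ℕ} {y : ℕ → G}

/-- (NO) in the form `NoB` -/
theorem noB_of_noHP [Finite G] (h : Fr T V z) (hno : ∀ p, Col V p p → NoHP V p (pim V p)) : NoB V := by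
  intro g p hp hp1 B hB hB1 hB2 N C hN hC
  have hpc : Col V p p := Col.of_mem hp hp hp1 hp1
  have md := md_MM h hpc
  have hfin : Finite (MM V p) := finite_Md md
  have hpp := h.pt_sq hpc
  obtain ⟨U, hU⟩ := TF.Md.exists_U h md hp hp1
  -- a second point of the line
  obtain ⟨x, hx, hx1, hxp⟩ : ∃ x ∈ cj g V, x ≠ 1 ∧ x ≠ p := by
    obtain ⟨k, -, -, hf⟩ := h.flag hp hp1
    exact hf.ln.exists_y
  have hno' := hno p hpc g x U hp hp1 hx hx1 hxp hU
  have hBc : B ≤ centralizer ({p} : Set G) := fun b hb => mem_centralizer_singleton_iff.2 (hB b hb)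
  -- the action on `π u`
  have hact : ∀ (b : centralizer ({p} : Set G)) {u : G}, u ∈ ws V p →
      (b • pim V p u = pim V p u ↔ (b : G) * u * (b : G)⁻¹ * u⁻¹ ∈ zpowers p) := by
    intro b u hu
    rw [← md.smul b u hu, md.eq_iff h hpc (conj_mem_ws_of_mem b.2 hu) hu, mem_zpowers_iff_of_mul_self hpp]
    refine or_congr ⟨fun e => ?_, fun e => ?_⟩ ⟨fun e => ?_, fun e => ?_⟩
    · rw [e, mul_inv_cancel]
    · exact mul_inv_eq_one.1 e
    · rw [e, mul_inv_cancel_right]
    · exact mul_inv_eq_iff_eq_mul.1 e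
  have h1 := hno' (B.subgroupOf (centralizer ({p} : Set G))) (by
    intro b hb
    have hb' : (b : G) ∈ B := mem_subgroupOf.1 hb
    refine ⟨fun u hu => ?_, fun v => ?_⟩
    · obtain ⟨a, ha, rfl⟩ := (hU u).1 hu
      exact (hact b (h.ii_cj_le hp hp1 ha)).2 (hB1 _ hb' a ha)
    · obtain ⟨a, ha, rfl⟩ := md.surj v
      have ha' : a⁻¹ = a := inv_eq_of_mul_eq_one_left (h.ws_sq hpc a ha)
      have h2 : (b : G) * a * (b : G)⁻¹ ∈ ws V p := conj_mem_ws_of_mem b.2 ha
      rw [md.sub_eq h hpc, ← md.smul b a ha, ← md.map_mul _ h2 _ ha, hU]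
      refine ⟨_, hB2 _ hb' a ha, ?_⟩
      rw [ha'])
  -- the indices
  have h2 : (kerM (centralizer ({p} : Set G)) (MM V p)).relIndex (B.subgroupOf (centralizer ({p} : Set G))) =
      N.relIndex B := by
    have e : (kerM (centralizer ({p} : Set G)) (MM V p)).subgroupOf (B.subgroupOf (centralizer ({p} : Set G))) =
        (N.subgroupOf (centralizer ({p} : Set G))).subgroupOf (B.subgroupOf (centralizer ({p} : Set G))) := by
      ext ⟨b, hb⟩
      rw [mem_subgroupOf, mem_subgroupOf, mem_subgroupOf, mem_kerM, hN]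
      have hb' : (b : G) ∈ B := mem_subgroupOf.1 hb
      constructor
      · intro hk
        exact ⟨hb', fun u hu => (hact b hu).1 (hk _)⟩
      · rintro ⟨-, hk⟩ v
        obtain ⟨a, ha, rfl⟩ := md.surj v
        exact (hact b ha).2 (hk a ha)
    rw [relIndex, e]
    change (N.subgroupOf (centralizer ({p} : Set G))).relIndex (B.subgroupOf (centralizer ({p} : Set G))) = _
    exact relIndex_subgroupOf hBc
  have h3 : (One.cv (MM V p) (B.subgroupOf (centralizer ({p} : Set G)))).index = C.relIndex (ws V p) := by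
    refine md.index_eq_relIndex fun a ha => ?_
    rw [One.mem_cv, hC]
    constructor
    · intro hk
      exact ⟨ha, fun b hb => (hact ⟨b, hBc hb⟩ ha).1 (hk ⟨b, hBc hb⟩ (mem_subgroupOf.2 hb))⟩
    · rintro ⟨-, hk⟩ b hb
      exact (hact b ha).2 (hk b (mem_subgroupOf.1 hb))
  have h4 := (One.cv (MM V p) (B.subgroupOf (centralizer ({p} : Set G)))).card_mul_index
  rw [h2, ← h4, h3, mul_comm] at h1
  exact Nat.le_of_mul_le_mul_left h1 Nat.card_pos

/-- **THEOREM LL**: there is no GOAL pair. -/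
theorem no_gg [Finite G] (h : Fr T V z)
    (hNO : NoOver (NO3S.TwoFar.inc (V := V)) NO3S.TwoFar.RR NO3S.TwoFar.WS NO3S.TwoFar.VL)
    (hno : ∀ p, Col V p p → NoHP V p (pim V p)) : ¬ GG V (m + 3) y := by
  intro gg
  obtain ⟨y', hy'⟩ := Ctx.exists_gr ⟨h, hNO, noB_of_noHP h hno, noTwo h m⟩ gg
  exact no_gr' h hNO hno y' hy'

/-- **THEOREM LL**, from (ML) -/
theorem no_gg_of_mlk [Finite G] (hML : ML.Final.MLK.{u, u}) (h : Fr T V z)
    (hNO : NoOver (NO3S.TwoFar.inc (V := V)) NO3S.TwoFar.RR NO3S.TwoFar.WS NO3S.TwoFar.VL)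
    (hK : ∀ p, Col V p p → IsKGroup (centralizer ({p} : Set G))) : ¬ GG V (m + 3) y :=
  no_gg h hNO fun p hp => noHP_of hML h (hK p hp) (md_MM h hp)

/-- a goal pair in the form of `SecOne` has a geodesic -/
theorem exists_gg_of_goal {p x q : G} (hg : Goal V (m + 3) p x q) : ∃ y, GG V (m + 3) y := by
  have hp : Pth V (m + 2) x q := hg.path
  obtain ⟨w, h0, h1, h2⟩ := Ctx.exists_seq hp
  refine ⟨ch p w, ?_, ?_, ?_, ?_, ?_⟩
  · change Cr V (m + 3) p (w (m + 2))
    rw [h1]; exact hg.crit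
  · intro i hi
    cases i with
    | zero =>
      change Col V p (w 0)
      rw [h0]; exact hg.col
    | succ i => exact h2 i (by omega)
  · change p ∉ ws V (w (m + 2))
    rw [h1]; exact hg.not_mem
  · change w (m + 2) ∉ ws V p
    rw [h1]; exact hg.not_mem'
  · intro a ha b hb
    have ha' : a ∈ ws V p := ha
    have hb' : b ∈ ws V (w (m + 2)) := hb
    change a * b * a⁻¹ * b⁻¹ ∈ ws V (w 0)
    rw [h1] at hb'
    rw [h0]
    exact (hg.le a ha' b hb').2

/-- **THEOREM LL**: no goal pair -/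
theorem no_goal [Finite G] (h : Fr T V z)
    (hNO : NoOver (NO3S.TwoFar.inc (V := V)) NO3S.TwoFar.RR NO3S.TwoFar.WS NO3S.TwoFar.VL)
    (hno : ∀ p, Col V p p → NoHP V p (pim V p)) {p x q : G} : ¬ Goal V (m + 3) p x q := fun hg =>
  no_gg h hNO hno (exists_gg_of_goal hg).choose_spec

/-- **THEOREM LL**: no goal pair, from (ML) -/
theorem no_goal_of_mlk [Finite G] (hML : ML.Final.MLK.{u, u}) (h : Fr T V z)
    (hNO : NoOver (NO3S.TwoFar.inc (V := V)) NO3S.TwoFar.RR NO3S.TwoFar.WS NO3S.TwoFar.VL)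
    (hK : ∀ p, Col V p p → IsKGroup (centralizer ({p} : Set G))) {p x q : G} : ¬ Goal V (m + 3) p x q := fun hg =>
  no_gg_of_mlk hML h hNO hK (exists_gg_of_goal hg).choose_spec

end Cfsg.Agent.Omega.NOThree.LL

end

section


/-!
# The world `W0` for `n ≥ 3` (#21024 of helper56): the input from THEOREM LL (#18157 (6.1), (6.2)), `N_p` arbitrary

* `PreL` : an exact critical pair with `x^b ≠ p x` and `[W_p, W_q] ≤ W_{p₁}`; `PreL.one_one`, `PreL.all` (1.1), (1.2);
* `exists_sp_of_le` : it has a special point (a (D)-pair);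
* `no_sp` : without goal pairs no critical pair has a special point;
* `world` : from (ML), all critical pairs are exact, `x^b ≠ p x`, no (D)-pair.
-/

set_option autoImplicit false
set_option linter.unusedSectionVars false

namespace Cfsg.Agent.Omega.NO3S.WZero

open Subgroup Cfsg Cfsg.Agent.ZN Cfsg.Agent.MinSimple.Geo Cfsg.Agent.Omega.CaseL Cfsg.Agent.Omega.NO3S.TwoOne
open Cfsg.Agent.Omega Cfsg.Agent.Omega.NOThree Cfsg.Agent.Omega.NOThree.LL
open Cfsg.Agent.Omega.NO3S.Pt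
open Cfsg.Agent.Omega.NO3S.Dual (nn mem_nn DW)
open Cfsg.Agent.Omega.NOThree.TF (Md conj_mem_ws_of_mem exists_T exists_flag2 MM pim md_MM ce)
open Cfsg.Agent.Omega.NOThree.SecOne (Exact ee mem_ee Goal comm_of_comm_eq_one comm_eq_one comm_inv_eq exact_or_goal)
open Cfsg.Agent.Omega.NOThree.SecFive (Sp)
open Cfsg.Agent.ZN.Block (conj_mem_of_normalizer conj_mem_of_normalizer' le_normalizer_of_forall
  mem_normalizer_of)

universe u v

variable {G : Type u} [Group G] {M : Type v} [AddCommGroup M]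

/-- an exact critical pair with `x^b ≠ p x`, `[W_p, W_q] ≤ W_{p₁}` -/
structure PreL (T V : Subgroup G) (z : G) (m : ℕ) (p q p₁ : G) [DistribMulAction (centralizer ({p} : Set G)) M]
    (π : G → M) : Prop where
  fr : Fr T V z
  cr : Cr V (m + 3) p q
  col : Col V p p₁
  ne : p₁ ≠ p
  pth : Pth V (m + 2) p₁ q
  ex : Exact V p q
  nm : ∀ x, Col V x p → x ≠ p → ∀ b ∈ ws V q, b * x * b⁻¹ ≠ p * x
  md : Md V p π
  le : ∀ a ∈ ws V p, ∀ b ∈ ws V q, a * b * a⁻¹ * b⁻¹ ∈ ws V p₁

namespace PreL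

variable {T V : Subgroup G} {z p q p₁ : G} {m : ℕ} [DistribMulAction (centralizer ({p} : Set G)) M]
  {π : G → M} (s : PreL T V z m p q p₁ π)
include s

theorem hp : Col V p p := s.col.left

theorem wq_le [Finite G] : ws V q ≤ centralizer ({p} : Set G) := s.cr.symm.cent s.fr

theorem com1 : Com V p₁ q := s.cr.min (m + 2) (by omega) _ _ s.pth

theorem p1_mem : p₁ ∈ ws V p := s.fr.mem_ws_of_col s.col

theorem p1_mem' : p₁ ∈ ws V p₁ := s.fr.mem_ws_self s.col.right

theorem fix_lam {f : centralizer ({p} : Set G)} (hf : (f : G) ∈ ws V q) : f • π p₁ = π p₁ := by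
  rw [← s.md.smul f _ s.p1_mem]
  congr 1
  exact NO3S.Dual.conj_eq_of_comm (s.com1 _ s.p1_mem' _ hf).symm

theorem two (m : M) : m + m = 0 := s.md.two s.fr s.hp m

theorem sub_eq (m m' : M) : m - m' = m + m' := s.md.sub_eq s.fr s.hp m m'

theorem f_sq {f : centralizer ({p} : Set G)} (hf : (f : G) ∈ ws V q) (v : M) : f • f • v = v := by
  have e : f * f = 1 := Subtype.ext (s.fr.ws_sq s.cr.path.right _ hf)
  rw [← mul_smul, e, one_smul]

theorem moves_of_not_mem [Finite G] {f : centralizer ({p} : Set G)} (hf : (f : G) ∈ ws V q)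
    (hfc : (f : G) ∉ centralizer (ws V p : Set G)) : ∃ v : M, f • v ≠ v := by
  by_contra hcon
  push Not at hcon
  apply hfc
  have h1 := s.ex.kq _ hf ((s.md.mem_kq_iff s.fr s.hp f).2 hcon)
  rw [mem_centralizer_iff]
  exact fun a ha => ((mem_ee.1 h1).2 a ha).symm

/-- `h` moves `λ` -/
theorem moves [Finite G] {f h : centralizer ({p} : Set G)} (hf : (f : G) ∈ ws V q)
    (i : Inv M f h) : h • π p₁ ≠ π p₁ := by
  intro e
  obtain ⟨k, hk, hkx⟩ := s.md.fix_lift s.fr s.col s.ne e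
  have hk1 : ∀ v : M, k • v = v := (s.md.mem_kq_iff s.fr s.hp k).1 hk
  obtain ⟨g, hp, hx, hp1, hx1⟩ := s.col
  set c : centralizer ({p} : Set G) := k * h with hc
  have hcv : ∀ v : M, c • v = h • v := fun v => by rw [hc, mul_smul, hk1]
  have hcv' : ∀ v : M, c⁻¹ • v = h⁻¹ • v := fun v => by
    rw [inv_smul_eq_iff, hcv, smul_inv_smul]
  -- `c ∈ C(l)`
  have hcl : (c : G) ∈ centralizer ((cj g V : Subgroup G) : Set G) := by
    rw [mem_centralizer_iff]
    intro a ha
    have e0 : (c : G) * p = p * c := mem_centralizer_singleton_iff.1 c.2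
    have e1 : (c : G) * p₁ = p₁ * c := NO3S.Dual.comm_of_conj_eq hkx
    rcases TF.Md.four_cj s.fr hp hp1 hx hx1 s.ne ha with e | e | e | e
    · rw [e]; simp
    · rw [e, e0]
    · rw [e, e1]
    · rw [e]
      calc p * p₁ * c = p * (p₁ * c) := by group
        _ = (p * c) * p₁ := by rw [← e1]; group
        _ = c * (p * p₁) := by rw [← e0]; group
  -- `f ∈ O₂(C(l))`
  have h1 : (f : G) ∈ o2 (centralizer ((cj g V : Subgroup G) : Set G)) :=
    ws_le_o2_line s.fr s.cr.min (n := m + 2) s.pth.symm hx hf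
  set d : centralizer ({p} : Set G) := f * (c * f⁻¹ * c⁻¹) with hd
  have h2 : (d : G) ∈ o2 (centralizer ((cj g V : Subgroup G) : Set G)) :=
    mul_mem h1 (conj_mem_of_normalizer (le_normalizer_o2 _) hcl (inv_mem h1))
  obtain ⟨j, hj⟩ := isPGroup_o2 _ ⟨(d : G), h2⟩
  have hj' : d ^ 2 ^ j = 1 := by
    refine Subtype.ext ?_
    have := congrArg Subtype.val hj
    rw [SubgroupClass.coe_pow, OneMemClass.coe_one] at this ⊢
    exact this
  refine i.not_two (d := d) (j := j) (fun v => ?_) (fun v => by rw [hj', one_smul])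
  rw [hd, mul_smul, mul_smul, mul_smul, hcv, hcv']
  have h3 : f⁻¹ • h⁻¹ • v = h • f⁻¹ • v := by
    rw [inv_smul_eq_iff, i.conj_smul, smul_inv_smul]
  rw [h3, i.conj_smul, i.conj_smul, smul_inv_smul]

/-- **movers** : `x = p₁^h ∼ p` with `x^f ≠ x, p x` -/
theorem exists_mover [Finite G] {f : centralizer ({p} : Set G)} (hf : (f : G) ∈ ws V q)
    (hfc : (f : G) ∉ centralizer (ws V p : Set G)) :
    ∃ h : centralizer ({p} : Set G), Inv M f h ∧ Col V p ((h : G) * p₁ * (h : G)⁻¹) ∧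
      (h : G) * p₁ * (h : G)⁻¹ ≠ p ∧ f • π ((h : G) * p₁ * (h : G)⁻¹) ≠ π ((h : G) * p₁ * (h : G)⁻¹) := by
  obtain ⟨h, i⟩ := exists_inv (redM_md s.fr s.md s.col s.ne) (s.f_sq hf) (s.moves_of_not_mem hf hfc)
  have hp0 : (h : G) * p * (h : G)⁻¹ = p :=
    NO3S.Dual.conj_eq_of_comm (mem_centralizer_singleton_iff.1 h.2)
  refine ⟨h, i, ?_, ?_, ?_⟩
  · have := s.col.conj (h : G)
    rwa [hp0] at this
  · intro e
    apply s.ne
    calc p₁ = (h : G)⁻¹ * ((h : G) * p₁ * (h : G)⁻¹) * h := by group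
      _ = (h : G)⁻¹ * (h * p * (h : G)⁻¹) * h := by rw [e, hp0]
      _ = p := by group
  · rw [s.md.smul h _ s.p1_mem]
    intro e
    exact s.moves hf i (i.fix' (s.fix_lam hf) e)

/-- `C(W_{p₁})` and `C(W_x)` -/
theorem cent_lift {x : G} {h g : centralizer ({p} : Set G)} (hx : x = (h : G) * p₁ * (h : G)⁻¹)
    (hg : (g : G) ∈ centralizer (ws V p₁ : Set G)) :
    ((h * g * h⁻¹ : centralizer ({p} : Set G)) : G) ∈ centralizer (ws V x : Set G) := by
  rw [mem_centralizer_iff] at hg ⊢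
  intro a ha
  have h1 : (h : G)⁻¹ * a * h ∈ ws V p₁ := by
    have := conj_mem_ws (h : G)⁻¹ ha
    have e : (h : G)⁻¹ * x * (h : G)⁻¹⁻¹ = p₁ := by rw [hx]; group
    rwa [e, inv_inv] at this
  have h2 := hg _ h1
  change a * ((h : G) * g * (h : G)⁻¹) = (h : G) * g * (h : G)⁻¹ * a
  calc a * ((h : G) * g * (h : G)⁻¹) = h * ((h : G)⁻¹ * a * h * g) * (h : G)⁻¹ := by group
    _ = (h : G) * g * (h : G)⁻¹ * a := by rw [h2]; group

/-- **(1.1)** -/
theorem one_one [Finite G] {f h : centralizer ({p} : Set G)} {x : G} (hf : (f : G) ∈ ws V q)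
    (i : Inv M f h) (hx : x = (h : G) * p₁ * (h : G)⁻¹) (hcol : Col V p x) (hxp : x ≠ p)
    (hmv : f • π x ≠ π x) (hD : ¬ ws V x ⊓ ws V ((f : G) * x * (f : G)⁻¹) ≤ ws V p) :
    f • π x = π x + π p₁ ∧ ∀ g : centralizer ({p} : Set G), (g : G) ∈ centralizer (ws V p₁ : Set G) →
      g • π x - π x ∈ AddSubgroup.closure {π p₁} ⊔ NB V p π := by
  have two := s.two
  obtain ⟨l, hp, hq, hp1, hq1⟩ := s.col
  obtain ⟨U, hU⟩ := TF.Md.exists_U s.fr s.md hp hp1
  have hlU : π p₁ ∈ U := TF.Md.lam_mem_U s.fr s.md hp hp1 hq hU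
  have hUN : ∀ v ∈ U, v ∈ NB V p π → v = 0 := fun v hv hn => inf_NB s.fr s.md hp hp1 hU hv hn
  have hNs : ∀ (c : centralizer ({p} : Set G)), ∀ v ∈ NB V p π, c • v ∈ NB V p π :=
    fun c v hv => smul_mem_NB s.fr s.hp s.md c hv
  have hl0 : π p₁ ≠ 0 := s.md.pt_ne_zero s.fr s.col s.ne
  have hlN : π p₁ ∉ NB V p π := fun h1 => hl0 (hUN _ hlU h1)
  have hxw : x ∈ ws V p := s.fr.mem_ws_of_col hcol
  have hmu : π x = h • π p₁ := by rw [hx]; exact s.md.smul h _ s.p1_mem
  set x' := (f : G) * x * (f : G)⁻¹ with hx'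
  have hxw' : x' ∈ ws V p := conj_mem_ws_of_mem f.2 hxw
  have hnu : π x' = f • π x := s.md.smul f x hxw
  have hff : f • π x' = π x := by rw [hnu, s.f_sq hf]
  set mu := π x with hmudef
  set nu := π x' with hnudef
  set lam := π p₁ with hlam
  have hne : nu ≠ mu := by
    intro e
    exact hmv (by rw [← hnu]; exact e)
  have hfl : f • lam = lam := s.fix_lam hf
  -- `c = mu + nu ∈ U`
  have hcU : mu + nu ∈ U := by
    have h1 : x' * x⁻¹ ∈ ws V p₁ := by
      have h2 := s.le x hxw f hf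
      have e : x' * x⁻¹ = (x * f * x⁻¹ * (f : G)⁻¹)⁻¹ := by rw [hx']; group
      rw [e]
      exact inv_mem h2
    have hxi : x⁻¹ = x := inv_eq_of_mul_eq_one_right (s.fr.pt_sq hcol.right)
    rw [hxi] at h1
    have h2 : x' * x ∈ ws V p := mul_mem hxw' hxw
    rw [hU]
    refine ⟨x' * x, s.fr.mem_ii_cj hp hp1 hq hq1 s.ne h2 h1, ?_⟩
    rw [s.md.map_mul _ hxw' _ hxw, add_comm]
  have hcN : mu + nu ∉ NB V p π := by
    intro h1
    have h2 := hUN _ hcU h1
    apply hne
    rw [← s.sub_eq, sub_eq_zero] at h2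
    exact h2.symm
  have hnuN : nu ∉ NB V p π := by
    intro h1
    apply hlN
    have h2 := hNs h⁻¹ _ (hNs f _ h1)
    rwa [hff, hmu, inv_smul_smul] at h2
  -- (S)
  have hcolx' : Col V p x' := by
    have := hcol.conj (f : G)
    rwa [NO3S.Dual.conj_eq_of_comm (mem_centralizer_singleton_iff.1 f.2)] at this
  have hx'p : x' ≠ p := by
    intro e
    apply hxp
    have e0 : (f : G)⁻¹ * p * f = p := by
      have := mem_centralizer_singleton_iff.1 f.2
      rw [mul_assoc, ← this, inv_mul_cancel_left]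
    calc x = (f : G)⁻¹ * x' * f := by rw [hx']; group
      _ = p := by rw [e, e0]
  have hS := (s.fr.lemD hcol hcolx' hxp hx'p).resolve_left hD
  set P := AddSubgroup.closure {mu, nu} ⊔ NB V p π with hP
  have hmuP : mu ∈ P := (le_sup_left : _ ≤ P) (AddSubgroup.subset_closure (Or.inl rfl))
  have hnuP : nu ∈ P := (le_sup_left : _ ≤ P) (AddSubgroup.subset_closure (Or.inr rfl))
  have hNP : NB V p π ≤ P := le_sup_right
  have hpre : closure {x, x'} ⊔ nn (ws V p) (kq V p) ≤ pre s.md P := by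
    refine sup_le ?_ fun a ha => ⟨ha.1, hNP ((mem_NB s.fr s.hp s.md).2 ⟨a, ha, rfl⟩)⟩
    rw [closure_le]
    rintro a (rfl | rfl)
    · exact ⟨hxw, hmuP⟩
    · exact ⟨hxw', hnuP⟩
  have hgen : ∀ g : centralizer ({p} : Set G), (g • mu ∈ P) → (g • nu ∈ P) → ∀ v ∈ P, g • v ∈ P := by
    intro g h1 h2
    have h3 : P ≤ P.comap (DistribSMul.toAddMonoidHom M g) := by
      rw [hP, sup_le_iff, AddSubgroup.closure_le]
      refine ⟨?_, fun v hv => hNP (hNs g v hv)⟩
      rintro v (rfl | rfl)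
      · exact h1
      · exact h2
    exact fun v hv => h3 hv
  have hcx : ∀ g : centralizer ({p} : Set G), (g : G) ∈ centralizer (ws V x : Set G) →
      g • mu = mu ∧ g • nu ∈ P := by
    intro g hg
    have h1 := hS g ((le_sup_left : centralizer (ws V x : Set G) ≤ _) hg)
    constructor
    · rw [hmudef, ← s.md.smul g x hxw]
      congr 1
      exact NO3S.Dual.conj_eq_of_comm (mem_centralizer_iff.1 hg x (s.fr.mem_ws_self hcol.right)).symm
    · have h2 := (hpre h1.2).2
      rw [s.md.smul g x' hxw'] at h2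
      exact h2
  have h1 : ∀ v ∈ P, f • v ∈ P := hgen f (by rw [← hnu]; exact hnuP) (by rw [hff]; exact hmuP)
  have h2 : ∀ v ∈ P, h • f • h⁻¹ • v ∈ P := by
    intro v hv
    have hfc : (f : G) ∈ centralizer (ws V p₁ : Set G) := by
      rw [mem_centralizer_iff]
      exact fun a ha => s.com1 a ha _ hf
    obtain ⟨h3, h4⟩ := hcx _ (s.cent_lift hx hfc)
    have h5 := hgen (h * f * h⁻¹) (by rw [h3]; exact hmuP) h4 v hv
    rwa [mul_smul, mul_smul] at h5
  obtain ⟨h3, h4⟩ := i.pres (s.f_sq hf) h1 h2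
  have hlP : lam ∈ P := by
    have := h4 _ hmuP
    rwa [hmu, inv_smul_smul] at this
  have hlam' : nu = mu + lam := by
    obtain ⟨w, hw, e | e | e | e⟩ := St.mem_sup4 two hlP
    · exact absurd (e ▸ hw) hlN
    · exfalso
      apply hcN
      have e1 : f • lam = f • mu + f • w := by rw [e, smul_add]
      rw [hfl, ← hnu] at e1
      have e2 : mu + nu = w + f • w := by
        have e3 : mu = lam + w := by rw [e, add_assoc, two, add_zero]
        have e4 : nu = lam + f • w := by rw [e1, add_assoc, two, add_zero]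
        rw [e3, e4]
        calc lam + w + (lam + f • w) = (lam + lam) + (w + f • w) := by abel
          _ = w + f • w := by rw [two, zero_add]
      rw [e2]
      exact add_mem hw (hNs f w hw)
    · exfalso
      apply hcN
      have e1 : f • lam = f • nu + f • w := by rw [e, smul_add]
      rw [hfl, hff] at e1
      have e2 : mu + nu = f • w + w := by
        have e3 : nu = lam + w := by rw [e, add_assoc, two, add_zero]
        have e4 : mu = lam + f • w := by rw [e1, add_assoc, two, add_zero]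
        rw [e3, e4]
        calc lam + f • w + (lam + w) = (lam + lam) + (f • w + w) := by abel
          _ = f • w + w := by rw [two, zero_add]
      rw [e2]
      exact add_mem (hNs f w hw) hw
    · have e1 : w = lam + (mu + nu) := by
        rw [e]
        calc w = (mu + mu) + (nu + nu) + w := by rw [two, two, zero_add, zero_add]
          _ = mu + nu + w + (mu + nu) := by abel
      have e2 : w = 0 := hUN w (by rw [e1]; exact add_mem hlU hcU) hw
      rw [e2, add_zero] at e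
      rw [e]
      calc nu = (mu + mu) + nu := by rw [two, zero_add]
        _ = mu + (mu + nu) := by abel
  refine ⟨by rw [← hnu]; exact hlam', ?_⟩
  -- `[nu, C(W_x)] ≤ ⟨mu⟩ + N`
  have h5 : ∀ g : centralizer ({p} : Set G), (g : G) ∈ centralizer (ws V x : Set G) →
      ∃ w ∈ NB V p π, g • nu - nu = w ∨ g • nu - nu = mu + w := by
    intro g hg
    obtain ⟨h6, h7⟩ := hcx g hg
    obtain ⟨w, hw, e | e | e | e⟩ := St.mem_sup4 two h7
    · exfalso
      apply hnuN
      have := hNs g⁻¹ w hw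
      rwa [← e, inv_smul_smul] at this
    · exfalso
      apply hcN
      have e1 : g • (mu + nu) = w := by
        rw [smul_add, h6, e, ← add_assoc, two, zero_add]
      have := hNs g⁻¹ w hw
      rwa [← e1, inv_smul_smul] at this
    · exact ⟨w, hw, Or.inl (by rw [e, add_sub_cancel_left])⟩
    · refine ⟨w, hw, Or.inr ?_⟩
      rw [e]
      abel
  intro g hg
  set Q := AddSubgroup.closure {lam} ⊔ NB V p π with hQ
  have hlQ : lam ∈ Q := (le_sup_left : _ ≤ Q) (AddSubgroup.subset_closure rfl)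
  have hNQ : NB V p π ≤ Q := le_sup_right
  have hgl : g • lam = lam := by
    rw [hlam, ← s.md.smul g _ s.p1_mem]
    congr 1
    exact NO3S.Dual.conj_eq_of_comm (mem_centralizer_iff.1 hg _ s.p1_mem').symm
  -- for `κ = h⁻¹ • nu`
  have h8 : g • h⁻¹ • nu - h⁻¹ • nu ∈ Q := by
    obtain ⟨w, hw, e⟩ := h5 _ (s.cent_lift hx hg)
    have e1 : g • h⁻¹ • nu - h⁻¹ • nu = h⁻¹ • ((h * g * h⁻¹) • nu - nu) := by
      rw [smul_sub, mul_smul, mul_smul, inv_smul_smul]
    rw [e1]
    rcases e with e | e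
    · rw [e]
      exact hNQ (hNs _ w hw)
    · rw [e, smul_add, hmu, inv_smul_smul]
      exact add_mem hlQ (hNQ (hNs _ w hw))
  have hgN : ∀ w ∈ NB V p π, g • w - w ∈ Q := fun w hw => sub_mem (hNQ (hNs g w hw)) (hNQ hw)
  obtain ⟨w, hw, e | e | e | e⟩ := St.mem_sup4 two (h4 _ hnuP)
  · exfalso
    apply hnuN
    have := hNs h w hw
    rwa [← e, smul_inv_smul] at this
  · rw [e] at h8
    have e1 : g • mu - mu = (g • (mu + w) - (mu + w)) - (g • w - w) := by rw [smul_add]; abel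
    rw [e1]
    exact sub_mem h8 (hgN w hw)
  · rw [e, hlam'] at h8
    have e1 : g • mu - mu = (g • (mu + lam + w) - (mu + lam + w)) - (g • w - w) := by
      rw [smul_add, smul_add, hgl]; abel
    rw [e1]
    exact sub_mem h8 (hgN w hw)
  · exfalso
    apply hcN
    have e1 : h⁻¹ • nu = lam + w := by
      rw [e, hlam']
      calc mu + (mu + lam) + w = (mu + mu) + (lam + w) := by abel
        _ = lam + w := by rw [two, zero_add]
    have e2 : nu = mu + h • w := by
      rw [hmu, ← smul_add, ← e1, smul_inv_smul]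
    have e3 : mu + nu = h • w := by rw [e2, ← add_assoc, two, zero_add]
    rw [e3]
    exact hNs h w hw

/-- **(1.2)**: without special points `[M_p, W_q] ≤ ⟨λ⟩` -/
theorem all [Finite G] (hcon : ¬ ∃ x, Sp V p q x) (v : M) {b : centralizer ({p} : Set G)}
    (hb : (b : G) ∈ ws V q) : b • v = v ∨ b • v = v + π p₁ := by
  classical
  have two := s.two
  obtain ⟨l, hp, hq, hp1, hq1⟩ := s.col
  obtain ⟨U, hU⟩ := TF.Md.exists_U s.fr s.md hp hp1
  have hlU : π p₁ ∈ U := TF.Md.lam_mem_U s.fr s.md hp hp1 hq hU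
  have hUN : ∀ v ∈ U, v ∈ NB V p π → v = 0 := fun v hv hn => inf_NB s.fr s.md hp hp1 hU hv hn
  have hl0 : π p₁ ≠ 0 := s.md.pt_ne_zero s.fr s.col s.ne
  set Q := AddSubgroup.closure {π p₁} ⊔ NB V p π with hQ
  let ML : AddSubgroup M :=
    { carrier := {v | ∀ g : centralizer ({p} : Set G), (g : G) ∈ centralizer (ws V p₁ : Set G) → g • v - v ∈ Q}
      zero_mem' := fun g _ => by rw [smul_zero, sub_zero]; exact zero_mem _
      add_mem' := fun {a b} ha hb g hg => by
        have e : g • (a + b) - (a + b) = (g • a - a) + (g • b - b) := by rw [smul_add]; abel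
        rw [e]
        exact add_mem (ha g hg) (hb g hg)
      neg_mem' := fun {a} ha g hg => by
        have e : g • (-a) - (-a) = -(g • a - a) := by rw [smul_neg]; abel
        rw [e]
        exact neg_mem (ha g hg) }
  set X := pre s.md ML with hX
  set E := ee V p q with hE
  set E' := ee V q p with hE'
  have hex := s.ex
  have hXw : X ≤ ws V p := fun a ha => ha.1
  have hEw : E ≤ ws V p := fun a ha => (mem_ee.1 ha).1
  have hE'w : E' ≤ ws V q := fun a ha => (mem_ee.1 ha).1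
  let lft : ws V q → centralizer ({p} : Set G) := fun b => ⟨b, s.wq_le b.2⟩
  -- `δ ∈ {0, λ}`
  have hδ : ∀ (a : G) (b : ws V q), a ∈ X → lft b • π a - π a = 0 ∨ lft b • π a - π a = π p₁ := by
    intro a b ha
    have hbc : (lft b : G) ∈ centralizer (ws V p₁ : Set G) := by
      rw [mem_centralizer_iff]
      exact fun w hw => s.com1 w hw _ b.2
    have h1 : lft b • π a - π a ∈ Q := ha.2 (lft b) hbc
    have hbw : (b : G) * a * (b : G)⁻¹ ∈ ws V p := conj_mem_ws_of_mem (lft b).2 ha.1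
    have h2 : lft b • π a - π a ∈ U := by
      rw [hU]
      refine ⟨(b : G) * a * (b : G)⁻¹ * a, s.fr.mem_ii_cj hp hp1 hq hq1 s.ne (mul_mem hbw ha.1) ?_, ?_⟩
      · have h3 := inv_mem (s.le a ha.1 b b.2)
        have hai : a⁻¹ = a := inv_eq_of_mul_eq_one_right (s.fr.ws_sq s.hp a ha.1)
        have e : (a * b * a⁻¹ * (b : G)⁻¹)⁻¹ = (b : G) * a * (b : G)⁻¹ * a⁻¹ := by group
        rw [e, hai] at h3
        exact h3
      · rw [s.md.map_mul _ hbw _ ha.1, s.sub_eq]
        congr 1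
        exact s.md.smul (lft b) a ha.1
    have h3 : lft b • π a - π a ∈ AddSubgroup.closure {π p₁, 0} ⊔ NB V p π := by
      refine (sup_le_sup_right (AddSubgroup.closure_mono ?_) _) h1
      rintro v rfl
      exact Or.inl rfl
    obtain ⟨w, hw, e | e | e | e⟩ := St.mem_sup4 two h3
    · left
      rw [e] at h2 ⊢
      exact hUN w h2 hw
    · right
      have h4 : w ∈ U := by
        have : w = (π p₁ + w) - π p₁ := by abel
        rw [this, ← e]
        exact sub_mem h2 hlU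
      rw [e, hUN w h4 hw, add_zero]
    · left
      rw [zero_add] at e
      rw [e] at h2 ⊢
      exact hUN w h2 hw
    · right
      rw [add_zero] at e
      have h4 : w ∈ U := by
        have : w = (π p₁ + w) - π p₁ := by abel
        rw [this, ← e]
        exact sub_mem h2 hlU
      rw [e, hUN w h4 hw, add_zero]
  have hfl : ∀ b : ws V q, lft b • π p₁ = π p₁ := fun b => s.fix_lam b.2
  have hmulsgn : ∀ α β : M, (α = 0 ∨ α = π p₁) → (β = 0 ∨ β = π p₁) →
      (if α + β = 0 then (1 : ℤˣ) else -1) = (if α = 0 then (1 : ℤˣ) else -1) * (if β = 0 then (1 : ℤˣ) else -1) := by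
    rintro α β (rfl | rfl) (rfl | rfl)
    · simp
    · simp
    · simp
    · rw [if_pos (two _), if_neg hl0]
      rfl
  have h1 := pairing_units (A := X) (B := ws V q)
    (fun a b => if lft b • π (a : G) - π (a : G) = 0 then (1 : ℤˣ) else -1)
    (fun a a' b => by
      rw [← hmulsgn _ _ (hδ a b a.2) (hδ a' b a'.2)]
      congr 2
      change lft b • π ((a : G) * a') - π ((a : G) * a') = _
      rw [s.md.map_mul _ a.2.1 _ a'.2.1, smul_add]
      abel)
    (fun a b b' => by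
      rw [← hmulsgn _ _ (hδ a b a.2) (hδ a b' a.2)]
      congr 2
      have e : lft (b * b') = lft b * lft b' := rfl
      rw [e, mul_smul]
      have e1 : lft b • (lft b' • π (a : G) - π (a : G)) = lft b' • π (a : G) - π (a : G) := by
        rcases hδ a b' a.2 with e | e
        · rw [e, smul_zero]
        · rw [e, hfl]
      have e2 : lft b • lft b' • π (a : G) - π (a : G) =
          lft b • (lft b' • π (a : G) - π (a : G)) + (lft b • π (a : G) - π (a : G)) := by
        rw [smul_sub]; abel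
      rw [e2, e1, add_comm])
  -- the left kernel
  have h2 : Nat.card (X ⊓ E : Subgroup G) ≤
      Nat.card {a : X // ∀ b, (if lft b • π (a : G) - π (a : G) = 0 then (1 : ℤˣ) else -1) = 1} := by
    refine Nat.card_le_card_of_injective
      (fun a : (X ⊓ E : Subgroup G) => ⟨⟨a.1, a.2.1⟩, fun b => ?_⟩) ?_
    · refine if_pos ?_
      have h3 := (mem_ee.1 a.2.2).2 b b.2
      change lft b • π (a : G) - π (a : G) = 0
      rw [← s.md.smul (lft b) a a.2.1.1, sub_eq_zero]
      congr 1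
      exact NO3S.Dual.conj_eq_of_comm h3.symm
    · intro a a' e
      exact Subtype.ext (congrArg (fun t => (t.1 : G)) e)
  -- the right kernel
  have h3 : Nat.card {b : ws V q // ∀ a : X,
      (if lft b • π (a : G) - π (a : G) = 0 then (1 : ℤˣ) else -1) = 1} ≤ Nat.card E' := by
    refine Nat.card_le_card_of_injective (fun b => ⟨b.1, ?_⟩) ?_
    · by_contra hb
      have hbc : ((lft b.1 : centralizer ({p} : Set G)) : G) ∉ centralizer (ws V p : Set G) := by
        intro h4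
        apply hb
        rw [hE', mem_ee]
        exact ⟨b.1.2, fun a ha => (mem_centralizer_iff.1 h4 a ha).symm⟩
      obtain ⟨h, i, hcol, hxp, hmv⟩ := s.exists_mover (f := lft b.1) b.1.2 hbc
      have hxw : ((h : G) * p₁ * (h : G)⁻¹) ∈ ws V p := s.fr.mem_ws_of_col hcol
      obtain ⟨h5, h6⟩ := s.one_one b.1.2 i rfl hcol hxp hmv (fun hD => hcon
        ⟨_, hcol.symm, (b.1 : G), b.1.2, fun e => hmv (by
          rw [← s.md.smul (lft b.1) _ hxw]
          congr 1), hD⟩)
      have h7 : ((h : G) * p₁ * (h : G)⁻¹) ∈ X := ⟨hxw, h6⟩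
      have h8 := b.2 ⟨_, h7⟩
      have h9 : ¬ (lft b.1 • π ((h : G) * p₁ * (h : G)⁻¹) - π ((h : G) * p₁ * (h : G)⁻¹) = 0) := by
        rw [h5, add_sub_cancel_left]
        exact hl0
      rw [if_neg h9] at h8
      exact absurd h8 (by decide)
    · intro b b' e
      have e1 : ((b.1 : ws V q) : G) = b'.1 := congrArg (fun t : E' => (t : G)) e
      exact Subtype.ext (Subtype.ext e1)
  -- the count
  have hcX : Nat.card (X ⊓ E : Subgroup G) * E.relIndex X = Nat.card X := by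
    rw [← inf_relIndex_left]
    exact NO3S.Dual.card_mul_relIndex_of_le inf_le_left
  have hcW : Nat.card E' * E'.relIndex (ws V q) = Nat.card (ws V q) :=
    NO3S.Dual.card_mul_relIndex_of_le hE'w
  have hr : E.relIndex (ws V p) ≤ E.relIndex X := by
    rw [hE, hex.card, ← hE']
    have h4 : Nat.card (X ⊓ E : Subgroup G) * Nat.card E' * E'.relIndex (ws V q) ≤
        Nat.card (X ⊓ E : Subgroup G) * Nat.card E' * E.relIndex X := by
      calc Nat.card (X ⊓ E : Subgroup G) * Nat.card E' * E'.relIndex (ws V q) =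
          Nat.card (X ⊓ E : Subgroup G) * Nat.card (ws V q) := by rw [mul_assoc, hcW]
        _ ≤ _ * Nat.card (ws V q) := Nat.mul_le_mul_right _ h2
        _ = Nat.card X * _ := h1
        _ ≤ Nat.card X * Nat.card E' := Nat.mul_le_mul_left _ h3
        _ = Nat.card (X ⊓ E : Subgroup G) * Nat.card E' * E.relIndex X := by rw [← hcX]; ring
    exact Nat.le_of_mul_le_mul_left h4 (Nat.mul_pos Nat.card_pos Nat.card_pos)
  have hXE : ws V p ≤ X ⊔ E := by
    rw [← relIndex_eq_one]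
    have e1 := relIndex_mul_relIndex E (X ⊔ E) (ws V p) le_sup_right (sup_le hXw hEw)
    have e2 : E.relIndex X ≤ E.relIndex (X ⊔ E) :=
      relIndex_le_of_le_right le_sup_left index_ne_zero_of_finite
    have e3 : E.relIndex (X ⊔ E) ≠ 0 := index_ne_zero_of_finite
    have e4 : (X ⊔ E).relIndex (ws V p) ≠ 0 := index_ne_zero_of_finite
    have e5 : E.relIndex (X ⊔ E) * (X ⊔ E).relIndex (ws V p) ≤ E.relIndex (X ⊔ E) * 1 := by
      rw [e1, mul_one]; omega
    have e6 := Nat.le_of_mul_le_mul_left e5 (Nat.pos_of_ne_zero e3)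
    omega
  -- `[W_p, W_q] ≤ ⟨e⟩`
  have hall : ∀ a ∈ ws V p, ∀ b : ws V q,
      lft b • π a - π a = 0 ∨ lft b • π a - π a = π p₁ := by
    intro a ha b
    obtain ⟨c, hc, e, he, rfl⟩ := NO3S.Dual.mem_sup_of_comm (s.fr.ws_comm s.hp) hXw hEw (hXE ha)
    have h4 : lft b • π e - π e = 0 := by
      rw [← s.md.smul (lft b) e (hEw he), sub_eq_zero]
      congr 1
      exact NO3S.Dual.conj_eq_of_comm ((mem_ee.1 he).2 b b.2).symm
    have h5 : lft b • π (c * e) - π (c * e) = lft b • π c - π c := by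
      rw [s.md.map_mul c hc.1 e (hEw he), smul_add]
      calc lft b • π c + lft b • π e - (π c + π e) = (lft b • π c - π c) + (lft b • π e - π e) := by abel
        _ = lft b • π c - π c := by rw [h4, add_zero]
    rw [h5]
    exact hδ c b hc
  obtain ⟨a, ha, rfl⟩ := s.md.surj v
  have h5 : lft ⟨b, hb⟩ = b := rfl
  rcases hall a ha ⟨b, hb⟩ with e | e <;> rw [h5] at e
  · left
    rw [sub_eq_zero.1 e]
  · right
    rw [sub_eq_iff_eq_add.1 e]
    abel

end PreL

section main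

variable {T V : Subgroup G} {z p q : G} {m n : ℕ}

/-- **(6.2)** : an exact critical pair with `x^b ≠ p x`, `[W_p, W_q] ≤ W_{p₁}` (`p₁` the second point of a
geodesic), has a special point (`N_p` arbitrary). -/
theorem exists_sp_of_le [Finite G] (h : Fr T V z) (hc : Cr V (m + 3) p q) (hex : Exact V p q)
    (nm : ∀ x, Col V x p → x ≠ p → ∀ b ∈ ws V q, b * x * b⁻¹ ≠ p * x) {p₁ g : G} (h1 : Pth V (m + 2) q p₁)
    (h2 : p₁ ∈ cj g V) (h3 : p ∈ cj g V) (h4 : p₁ ≠ 1) (h5 : p ≠ 1) (h6 : p₁ ≠ p)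
    (hle : ∀ a ∈ ws V p, ∀ b ∈ ws V q, a * b * a⁻¹ * b⁻¹ ∈ ws V p₁) : ∃ x, Sp V p q x := by
  by_contra hcon
  have hp : Col V p p := hc.path.left
  have hq : Col V q q := hc.path.right
  have hmp := md_MM h hp
  have hmq := md_MM h hq
  have s : PreL T V z m p q p₁ (pim V p) := ⟨h, hc, Col.of_mem h3 h2 h5 h4, h6, h1.symm, hex, nm, hmp, hle⟩
  have hpp := h.pt_sq hp
  have h11 := h.pt_sq s.col.right
  have hpp1 : p * p₁ = p₁ * p := h.col_comm s.col
  -- a point moved by `W_q`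
  obtain ⟨x, b₀, hx, hb₀, hxb⟩ : ∃ x b, Col V p x ∧ b ∈ ws V q ∧ b * x * b⁻¹ ≠ x := by
    by_contra hcon
    push Not at hcon
    apply hc.ne
    have h7 : ws V p ≤ centralizer (ws V q : Set G) := by
      refine ws_le fun L hL a ha => ?_
      obtain ⟨⟨k, rfl⟩, hpL⟩ := hL
      rw [mem_centralizer_iff]
      intro b hb
      by_cases ha1 : a = 1
      · rw [ha1]; simp
      exact NO3S.Dual.comm_of_conj_eq (hcon a b (Col.of_mem hpL ha h5 ha1) hb)
    exact fun a ha b hb => (mem_centralizer_iff.1 (h7 ha) b hb).symm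
  have hxw : x ∈ ws V p := h.mem_ws_of_col hx
  have hxp : x ≠ p := by
    intro e
    apply hxb
    rw [e]
    exact NO3S.Dual.conj_eq_of_comm (mem_centralizer_singleton_iff.1 (s.wq_le hb₀))
  have hxx := h.pt_sq hx.right
  -- `[x, W_q] ≤ {1, p₁, p p₁}`
  have key : ∀ b ∈ ws V q, b * x * b⁻¹ = x ∨ b * x * b⁻¹ = p₁ * x ∨ b * x * b⁻¹ = p * p₁ * x := by
    intro b hb
    have hbc := s.wq_le hb
    have hw : b * x * b⁻¹ ∈ ws V p := conj_mem_ws_of_mem hbc hxw
    have e1 : pim V p (b * x * b⁻¹) = (⟨b, hbc⟩ : centralizer ({p} : Set G)) • pim V p x := hmp.smul ⟨b, hbc⟩ x hxw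
    rcases s.all hcon (pim V p x) (b := ⟨b, hbc⟩) hb with e | e
    · rw [e] at e1
      rcases (hmp.eq_iff h hp hw hxw).1 e1 with e2 | e2
      · exact Or.inl e2
      · exact absurd e2 (nm x hx.symm hxp b hb)
    · rw [e, add_comm, ← hmp.map_mul _ s.p1_mem _ hxw] at e1
      rcases (hmp.eq_iff h hp hw (mul_mem s.p1_mem hxw)).1 e1 with e2 | e2
      · exact Or.inr (Or.inl e2)
      · exact Or.inr (Or.inr (by rw [e2, mul_assoc]))
  -- `W_q` centralises `p`, `p₁`
  have hbp : ∀ b ∈ ws V q, b * p = p * b := fun b hb => mem_centralizer_singleton_iff.1 (s.wq_le hb)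
  have hbp1 : ∀ b ∈ ws V q, b * p₁ = p₁ * b := fun b hb => (s.com1 _ s.p1_mem' b hb).symm
  -- the centre
  obtain ⟨e, he, hcol, hpe, hee, hall⟩ : ∃ e : G, b₀ * x * b₀⁻¹ = e * x ∧ Col V p e ∧ pim V p e = pim V p p₁ ∧
      (∀ b ∈ ws V q, b * e = e * b) ∧ ∀ b ∈ ws V q, b * x * b⁻¹ = x ∨ b * x * b⁻¹ = e * x := by
    have hne : p * p₁ ≠ 1 := by
      intro e
      apply h6
      calc p₁ = p * p * p₁ := by rw [hpp, one_mul]
        _ = p := by rw [mul_assoc, e, mul_one]
    have hbb : ∀ b ∈ ws V q, ∀ e e' : G, b₀ * x * b₀⁻¹ = e * x → b * x * b⁻¹ = e' * x → b * e = e * b →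
        e * e' ≠ p := by
      intro b hb e e' h7 h8 h9 h10
      apply nm x hx.symm hxp _ (mul_mem hb hb₀)
      calc b * b₀ * x * (b * b₀)⁻¹ = b * (b₀ * x * b₀⁻¹) * b⁻¹ := by group
        _ = (b * e) * x * b⁻¹ := by rw [h7]; group
        _ = e * (b * x * b⁻¹) := by rw [h9]; group
        _ = p * x := by rw [h8, ← mul_assoc, h10]
    rcases key b₀ hb₀ with e1 | e1 | e1
    · exact absurd e1 hxb
    · refine ⟨p₁, e1, s.col, rfl, hbp1, fun b hb => ?_⟩
      rcases key b hb with e2 | e2 | e2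
      · exact Or.inl e2
      · exact Or.inr e2
      · refine absurd ?_ (hbb b hb p₁ (p * p₁) e1 e2 (hbp1 b hb))
        rw [hpp1, ← mul_assoc, h11, one_mul]
    · refine ⟨p * p₁, e1, Col.of_mem h3 (mul_mem h3 h2) h5 hne, ?_, ?_, fun b hb => ?_⟩
      · exact (hmp.eq_iff h hp (mul_mem (h.mem_ws_self hp) s.p1_mem) s.p1_mem).2 (Or.inr rfl)
      · intro b hb
        rw [← mul_assoc, hbp b hb, mul_assoc, hbp1 b hb, mul_assoc]
      · rcases key b hb with e2 | e2 | e2
        · exact Or.inl e2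
        · refine absurd ?_ (hbb b hb (p * p₁) p₁ e1 e2 ?_)
          · rw [mul_assoc, h11, mul_one]
          · rw [← mul_assoc, hbp b hb, mul_assoc, hbp1 b hb, mul_assoc]
        · exact Or.inr e2
  have he1 : e ≠ 1 := hcol.right.ne_one
  have hepw : e ∈ ws V p := h.mem_ws_of_col hcol
  have hesq : e * e = 1 := h.pt_sq hcol.right
  have hep : e ≠ p := by
    intro e2
    exact nm x hx.symm hxp b₀ hb₀ (by rw [he, e2])
  have heqw : e ∈ ws V q := by
    have h7 := inv_mem (hc.comm_mem_right h hxw hb₀)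
    have e2 : (x * b₀ * x⁻¹ * b₀⁻¹)⁻¹ = b₀ * x * b₀⁻¹ * x⁻¹ := by group
    rwa [e2, he, mul_inv_cancel_right] at h7
  have heq : e ≠ q := by
    intro e2
    have h7 : Pth V 1 p q := by rw [← e2]; exact Pth.of_col hcol
    exact hc.ne (hc.min 1 (by omega) _ _ h7)
  -- `x` is a transvection of `M_q`
  have hs := tr_of_comm hmq (hc.cent h hxw) heqw he1 heq (fun b hb => by
    rcases hall b hb with e2 | e2
    · left
      exact NO3S.Dual.conj_eq_of_comm (NO3S.Dual.comm_of_conj_eq e2).symm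
    · right
      have h7 : b * x = e * x * b := by rw [← e2]; group
      calc x * b * x⁻¹ = e * (e * x * b) * x⁻¹ := by
            rw [mul_assoc e x b, ← mul_assoc e e, hesq, one_mul]
        _ = e * b := by rw [← h7]; group) ⟨b₀, hb₀, fun e2 => hxb
          (NO3S.Dual.conj_eq_of_comm (NO3S.Dual.comm_of_conj_eq e2).symm)⟩
  -- `b₀` is a transvection of `M_p`
  have ht : Tr (H := centralizer ({p} : Set G)) (pim V p e) ⟨b₀, s.wq_le hb₀⟩ :=
    ⟨fun v => by rw [hpe]; exact s.all hcon v hb₀, pim V p x, by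
      rw [← hmp.smul ⟨b₀, s.wq_le hb₀⟩ x hxw]
      change pim V p (b₀ * x * b₀⁻¹) ≠ _
      intro e2
      rcases (hmp.eq_iff h hp (conj_mem_ws_of_mem (s.wq_le hb₀) hxw) hxw).1 e2 with e3 | e3
      · exact hxb e3
      · exact nm x hx.symm hxp b₀ hb₀ e3⟩
  obtain ⟨k, hk⟩ := h.exists_conj hp hq
  have ht' := Tr.transport h hp hmp hmq hk hepw ht
  have hcol' : Col V q (k * e * k⁻¹) := by
    have := hcol.conj k
    rwa [hk] at this
  have hne' : k * e * k⁻¹ ≠ q := by
    intro e1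
    rw [← hk] at e1
    exact hep (mul_left_cancel (mul_right_cancel e1))
  have hqe := col_of_tr h hmq hcol' hne' ht' heqw he1 heq hs
  have hpath : Pth V 2 p q := (Pth.of_col hcol).step hqe.symm
  exact hc.ne (hc.min 2 (by omega) p q hpath)

/-- **no (D)-pair** : without goal pairs no critical pair has a special point (#18157 (6.1), (6.2), `N_p` arbitrary). -/
theorem no_sp [Finite G] (h : Fr T V z)
    (hNO : LemmaM.NoOver (NO3S.TwoFar.inc (V := V)) NO3S.TwoFar.RR NO3S.TwoFar.WS NO3S.TwoFar.VL)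
    (hG : ¬ ∃ p x q, Goal V (m + 3) p x q) (hc : Cr V (m + 3) p q) {x : G} : ¬ Sp V p q x := by
  intro hx
  obtain ⟨hE, hE'⟩ := (exact_or_goal h (by omega) hNO).resolve_left hG
  obtain ⟨r, g, h1, h2, h3, h4, h5, h6, -⟩ := Cr.last (n := m + 2) h hc
  have ha := MPlus.le_of_beta_one h (by omega) hNO hc (r := r) h1 (Col.of_mem h2 h3 h4 h5)
    (fun x _ hx => hG ⟨_, _, _, hx⟩) ⟨x, hx⟩
  have hle : ∀ a ∈ ws V q, ∀ b ∈ ws V p, a * b * a⁻¹ * b⁻¹ ∈ ws V r := by
    intro a ha' b hb'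
    rw [comm_inv_eq a b]
    exact (ws V r).inv_mem (ha.2 b hb' a ha')
  obtain ⟨x', hx'⟩ := exists_sp_of_le h hc.symm (hE q p hc.symm) (hE' q p hc.symm) h1 h2 h3 h4 h5 h6 hle
  obtain ⟨r', g', h1', h2', h3', h4', h5', h6', -⟩ := Cr.last (n := m + 2) h hc.symm
  have hb := MPlus.le_of_beta_one h (by omega) hNO hc.symm (r := r') h1' (Col.of_mem h2' h3' h4' h5')
    (fun x _ hx => hG ⟨_, _, _, hx⟩) ⟨x', hx'⟩
  refine hG ⟨q, r, p, hc.symm, Col.of_mem h3 h2 h5 h4, h6, h1.symm, hb.1, ha.1, fun a ha' b hb' => ⟨?_, hle a ha' b hb'⟩⟩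
  exact hc.symm.comm_mem_left h ha' hb'

/-- **the world of #21024, `n ≥ 3`** : all critical pairs are exact, `x^b ≠ p x`, no (D)-pair. -/
theorem world [Finite G] (hML : ML.Final.MLK.{u, u}) (h : Fr T V z)
    (hK : ∀ p, Col V p p → IsKGroup (centralizer ({p} : Set G))) :
    (∀ p q, Cr V (m + 3) p q → Exact V p q) ∧
      (∀ p q, Cr V (m + 3) p q → ∀ x, Col V x p → x ≠ p → ∀ b ∈ ws V q, b * x * b⁻¹ ≠ p * x) ∧
        ∀ p q, Cr V (m + 3) p q → ∀ x, Col V x p → ∀ f ∈ ws V q, f * x * f⁻¹ ≠ x →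
          ¬ ws V x ⊓ ws V (f * x * f⁻¹) ≤ ws V p := by
  have hNO := NO3S.TwoFar.noOver_of_mlk hML h hK
  have hG : ¬ ∃ p x q, Goal V (m + 3) p x q := by
    rintro ⟨p, x, q, hg⟩
    exact no_goal_of_mlk hML h hNO hK hg
  obtain ⟨hE, hE'⟩ := (exact_or_goal h (by omega) hNO).resolve_left hG
  exact ⟨hE, hE', fun p q hc x hx f hf hfx hD => no_sp h hNO hG hc (x := x) ⟨hx, f, hf, hfx, hD⟩⟩

end main

end Cfsg.Agent.Omega.NO3S.WZero

end
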