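import Cfsg.Agent.Mrg.Omega.NOThree.TF.Blk
import Cfsg.Agent.Mrg.Omega.NOThree.NoOver
import Cfsg.Agent.PLocal.OffenderStep

section


/-!
# NO-3S: THEOREM SUM (orbit sums; bb: helper244)

`A ≤ B_λ = C_H(U) ∩ C_H(M/U)` such that `|[v, A]| ≥ 4` for every `v ∉ C_M(A)`. Then `[M, A]` contains a nonzero
element of a line vector. Only (COLL) is used. Here `Lam` is the set of the nonzero elements of the line vectors,
`L` the line vector containing `lam`.
-/

set_option autoImplicit false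
set_option linter.unusedSectionVars false

namespace Cfsg.Agent.Omega.NOThree.LL.OrbSum

open Cfsg.Agent.Omega.NOThree.LL.One

variable {H : Type*} {M : Type*} [Group H] [AddCommGroup M] [DistribMulAction H M]

/-- the sum of the elements of an elementary abelian 2-group of order at least 4 is zero -/
theorem sum_addSubgroup [Finite M] (two : ∀ m : M, m + m = 0) (C : AddSubgroup M) [Fintype C]
    (h4 : 4 ≤ Nat.card C) : ∑ c : C, (c : M) = 0 := by
  classical
  by_contra h0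
  have h1 : (∑ c : C, (c : M)) ∉ (⊥ : AddSubgroup M) := fun h => h0 (AddSubgroup.mem_bot.1 h)
  obtain ⟨φ, -, h2⟩ := exists_fun two h1
  rw [map_sum] at h2
  -- an element `d ≠ 0` of `C` in the kernel of `φ`
  obtain ⟨d, hd, hd0, hdφ⟩ : ∃ d ∈ C, d ≠ 0 ∧ φ d = 0 := by
    by_contra hne
    push Not at hne
    have h3 : ∀ x ∈ C, ∀ y ∈ C, φ x = φ y → x = y := by
      intro x hx y hy hxy
      by_contra h5
      refine hne (x - y) (C.sub_mem hx hy) (sub_ne_zero.2 h5) ?_
      rw [map_sub, hxy, sub_self]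
    have h6 : Nat.card C ≤ Nat.card (ZMod 2) :=
      Nat.card_le_card_of_injective (fun x : C => φ (x : M)) fun x y h => Subtype.ext (h3 x x.2 y y.2 h)
    rw [Nat.card_zmod] at h6
    omega
  have h7 : ∑ c : C, φ (c : M) = 0 := by
    refine Finset.sum_involution (fun c _ => c + ⟨d, hd⟩) ?_ ?_ ?_ ?_
    · intro c _
      change φ (c : M) + φ ((c : M) + d) = 0
      rw [map_add, hdφ, add_zero]
      generalize φ (c : M) = z
      revert z
      decide
    · intro c _ _ h8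
      apply hd0
      have h9 := congrArg (Subtype.val) h8
      change (c : M) + d = c at h9
      exact left_eq_add.1 h9.symm
    · intro c _
      exact Finset.mem_univ _
    · intro c _
      apply Subtype.ext
      change (c : M) + d + d = c
      rw [add_assoc, two, add_zero]
  rw [h7] at h2
  exact absurd h2 (by decide)

/-- The sum of an `A`-invariant finite set of vectors, all of whose orbits have length `≥ 4`, is zero. -/
theorem sum_invariant [Finite M] (two : ∀ m : M, m + m = 0) {U : AddSubgroup M} {A : Subgroup H}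
    (hA : A ≤ bb U) (s : Finset M) (hs : ∀ v ∈ s, ∀ a ∈ A, a • v ∈ s)
    (big : ∀ v ∈ s, 4 ≤ Nat.card (cs U v A hA)) : ∑ v ∈ s, v = 0 := by
  classical
  induction s using Finset.strongInduction with
  | H s ih =>
    rcases s.eq_empty_or_nonempty with h0 | ⟨v, hv⟩
    · rw [h0, Finset.sum_empty]
    · let _ : Fintype (cs U v A hA) := Fintype.ofFinite _
      let O : Finset M := Finset.univ.image (fun c : cs U v A hA => v + (c : M))
      have hO : ∀ w, w ∈ O ↔ ∃ a ∈ A, a • v = w := by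
        intro w
        simp only [O, Finset.mem_image, Finset.mem_univ, true_and]
        constructor
        · rintro ⟨⟨c, hc'⟩, rfl⟩
          obtain ⟨a, ha, hc⟩ := hc'
          refine ⟨a, ha, ?_⟩
          change a • v = v + c
          rw [← hc]
          abel
        · rintro ⟨a, ha, rfl⟩
          exact ⟨⟨a • v - v, a, ha, rfl⟩, by simp⟩
      have hOs : O ⊆ s := by
        intro w hw
        obtain ⟨a, ha, rfl⟩ := (hO w).1 hw
        exact hs v hv a ha
      have hvO : v ∈ O := (hO v).2 ⟨1, A.one_mem, one_smul _ v⟩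
      have h1 : ∑ w ∈ O, w = 0 := by
        rw [Finset.sum_image (fun x _ y _ h => Subtype.ext (add_left_cancel h)), Finset.sum_add_distrib,
          sum_addSubgroup two _ (big v hv), add_zero, Finset.sum_const, Finset.card_univ]
        have h2 : Even (Fintype.card (cs U v A hA)) := by
          have h3 : Nontrivial (cs U v A hA) := by
            have h5 := big v hv
            exact (Finite.one_lt_card_iff_nontrivial).1 (by omega)
          obtain ⟨x, hx⟩ := exists_ne (0 : cs U v A hA)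
          have h6 : addOrderOf x ∣ Nat.card (cs U v A hA) := addOrderOf_dvd_natCard x
          have h7 : addOrderOf x = 2 := by
            refine addOrderOf_eq_prime ?_ hx
            rw [two_nsmul]
            exact Subtype.ext (two x)
          rw [h7, Nat.card_eq_fintype_card] at h6
          exact even_iff_two_dvd.2 h6
        obtain ⟨k, hk⟩ := h2
        rw [hk, add_nsmul, two]
      have h2 : ∑ w ∈ s \ O, w = 0 := by
        refine ih (s \ O) (Finset.sdiff_ssubset hOs ⟨v, hvO⟩) ?_ ?_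
        · intro w hw a ha
          rw [Finset.mem_sdiff] at hw ⊢
          refine ⟨hs w hw.1 a ha, fun h3 => hw.2 ?_⟩
          obtain ⟨b, hb, h4⟩ := (hO _).1 h3
          refine (hO w).2 ⟨a⁻¹ * b, A.mul_mem (A.inv_mem ha) hb, ?_⟩
          rw [mul_smul, h4, inv_smul_smul]
        · intro w hw
          exact big w (Finset.mem_sdiff.1 hw).1
      rw [← Finset.sum_sdiff hOs, h1, h2, add_zero]

/-- **THEOREM SUM.** -/
theorem sum_main [Finite M] (two : ∀ m : M, m + m = 0) {Lam : Set M} {U L : AddSubgroup M} {lam : M}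
    {A : Subgroup H} {f h : H}
    (hlam : lam ∈ Lam) (hU : lam ∈ U) (smul : ∀ (g : H) {v : M}, v ∈ Lam → g • v ∈ Lam)
    (hL : ∀ r ∈ L, r ≠ 0 → r ∈ Lam)
    (coll : ∀ v ∈ U, v ∈ Lam → v ∉ L → v + lam ∈ Lam)
    (hlL : lam ∈ L)
    (hA : A ≤ bb U) (big : ∀ v : M, v ∉ cv M A → 4 ≤ Nat.card (cs U v A hA))
    (hf : f ∈ A) (hinv : f * h * f⁻¹ = h⁻¹) (ho : Odd (orderOf h)) (hmov : h • lam ≠ lam)
    (hfix : ∀ u ∈ U, f • h • u = h • u → h • u = u) :
    ∃ r ∈ cm M A, r ≠ 0 ∧ r ∈ Lam := by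
  classical
  let _ : Fintype M := Fintype.ofFinite M
  -- `B = A^h`
  let B : Subgroup H := A.map (MulAut.conj h).toMonoidHom
  have hB : ∀ {b : H}, b ∈ B ↔ ∃ a ∈ A, h * a * h⁻¹ = b := fun {b} => by
    simp only [B, Subgroup.mem_map]
    exact Iff.rfl
  let Y : Subgroup H := A ⊔ B
  have hY : h ∈ Y := by
    refine mem_of_sq ho ?_
    have h1 : h * f * h⁻¹ * f⁻¹ = h * h := by
      have h2 := congrArg (·⁻¹) hinv
      simp only [mul_inv_rev, inv_inv] at h2
      calc h * f * h⁻¹ * f⁻¹ = h * (f * (h⁻¹ * f⁻¹)) := by group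
        _ = h * h := by rw [h2]
    rw [← h1]
    exact Y.mul_mem (le_sup_right (a := A) (hB.2 ⟨f, hf, rfl⟩)) (Y.inv_mem (le_sup_left (b := B) hf))
  -- `M₃ = R + R^h`
  let R : AddSubgroup M := cm M A
  let R' : AddSubgroup M := R.map (DistribMulAction.toAddMonoidHom M h)
  have hR' : ∀ {w : M}, w ∈ R' ↔ ∃ r ∈ R, h • r = w := fun {w} => by
    simp only [R', AddSubgroup.mem_map]
    exact Iff.rfl
  have hRU : R ≤ U := cm_le_of_le_bb hA
  have hRA : ∀ a ∈ A, ∀ r ∈ R, a • r = r := fun a ha r hr => bb_fix (hA ha) (hRU hr)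
  -- every element of `Y` is trivial modulo `M₃`
  have hYM : ∀ y ∈ Y, ∀ m : M, y • m - m ∈ R ⊔ R' := by
    intro y hy
    let T : Subgroup H :=
      { carrier := {t | ∀ m : M, t • m - m ∈ R ⊔ R'}
        mul_mem' := by
          intro a b ha hb m
          have h3 : (a * b) • m - m = (a • (b • m - m) - (b • m - m)) + (b • m - m) + (a • m - m) := by
            rw [mul_smul, smul_sub]
            abel
          rw [h3]
          exact AddSubgroup.add_mem _ (AddSubgroup.add_mem _ (ha _) (hb _)) (ha _)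
        one_mem' := fun m => by rw [one_smul, sub_self]; exact AddSubgroup.zero_mem _
        inv_mem' := by
          intro a ha m
          have h3 : a⁻¹ • m - m = -(a • (a⁻¹ • m) - a⁻¹ • m) := by rw [smul_inv_smul]; abel
          rw [h3]
          exact AddSubgroup.neg_mem _ (ha _) }
    have hAT : A ≤ T := fun a ha m => le_sup_left (b := R') (sub_mem_cm ha m)
    have hBT : B ≤ T := by
      intro b hb m
      obtain ⟨a, ha, rfl⟩ := hB.1 hb
      refine le_sup_right (a := R) (hR'.2 ⟨a • h⁻¹ • m - h⁻¹ • m, sub_mem_cm ha _, ?_⟩)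
      rw [smul_sub, smul_inv_smul, mul_smul, mul_smul]
    exact (sup_le hAT hBT : Y ≤ T) hy
  -- (1)
  have hC : ∀ w ∈ R ⊔ R', f • w = w → w ∈ R := by
    intro w hw hfw
    obtain ⟨r, hr, r', hr', rfl⟩ := AddSubgroup.mem_sup.1 hw
    obtain ⟨u, hu, rfl⟩ := hR'.1 hr'
    rw [smul_add, hRA f hf r hr] at hfw
    have h1 := hfix u (hRU hu) (add_left_cancel hfw)
    rw [h1]
    exact R.add_mem hr hu
  -- the orbit
  let C : Finset M := Finset.univ.filter (fun v => ∃ y ∈ Y, y • lam = v)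
  have hCm : ∀ {v : M}, v ∈ C ↔ ∃ y ∈ Y, y • lam = v := fun {v} => by simp [C]
  have hCY : ∀ v ∈ C, ∀ y ∈ Y, y • v ∈ C := by
    intro v hv y hy
    obtain ⟨z, hz, rfl⟩ := hCm.1 hv
    exact hCm.2 ⟨y * z, Y.mul_mem hy hz, mul_smul _ _ _⟩
  have hCL : ∀ v ∈ C, v ∈ Lam := by
    intro v hv
    obtain ⟨y, -, rfl⟩ := hCm.1 hv
    exact smul y hlam
  by_contra hno
  push Not at hno
  -- (3) the only fixed vector of `A` in the orbit is `lam`
  have h3 : ∀ v ∈ C, v ∈ cv M A → v = lam := by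
    intro v hv hvA
    by_contra hne
    obtain ⟨y, hy, rfl⟩ := hCm.1 hv
    have h4 : y • lam - lam ∈ R := by
      refine hC _ (hYM y hy lam) ?_
      rw [smul_sub, hvA f hf, bb_fix (hA hf) hU]
    have h5 : y • lam - lam ≠ 0 := sub_ne_zero.2 hne
    have h6 : y • lam ∉ L := by
      intro h7
      exact hno _ h4 h5 (hL _ (L.sub_mem h7 hlL) h5)
    have h7 : y • lam ∈ U := by
      have := U.add_mem (hRU h4) hU
      rwa [sub_add_cancel] at this
    have h8 := coll _ h7 (hCL _ hv) h6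
    have h9 : y • lam + lam = y • lam - lam := by
      rw [sub_eq_add_neg, neg_eq_of_add_eq_zero_left (two lam)]
    rw [h9] at h8
    exact hno _ h4 h5 h8
  -- (2)
  have h4 : ∑ v ∈ C, v = lam := by
    have hlC : lam ∈ C := hCm.2 ⟨1, Y.one_mem, one_smul _ _⟩
    have hlA : lam ∈ cv M A := le_cv_of_le_bb hA hU
    rw [← Finset.sum_sdiff (Finset.singleton_subset_iff.2 hlC), Finset.sum_singleton]
    have h5 : ∑ v ∈ C \ {lam}, v = 0 := by
      refine sum_invariant two hA _ ?_ ?_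
      · intro v hv a ha
        rw [Finset.mem_sdiff, Finset.mem_singleton] at hv ⊢
        refine ⟨hCY v hv.1 a (le_sup_left (b := B) ha), fun h6 => hv.2 ?_⟩
        rw [← inv_smul_eq_iff.2 h6.symm, hlA _ (A.inv_mem ha)]
      · intro v hv
        rw [Finset.mem_sdiff, Finset.mem_singleton] at hv
        exact big v fun h6 => hv.2 (h3 v hv.1 h6)
    rw [h5, zero_add]
  -- the sum is `h`-invariant
  have h5 : h • ∑ v ∈ C, v = ∑ v ∈ C, v := by
    rw [Finset.smul_sum]
    refine Finset.sum_bij (fun v _ => h • v) ?_ ?_ ?_ ?_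
    · exact fun v hv => hCY v hv h hY
    · exact fun v _ w _ hvw => smul_left_cancel h hvw
    · exact fun v hv => ⟨h⁻¹ • v, hCY v hv _ (Y.inv_mem hY), smul_inv_smul _ _⟩
    · exact fun v _ => rfl
  rw [h4] at h5
  exact hmov h5

/-- an elementary abelian 2-group of order `> 2` has order `≥ 4` -/
theorem four_le_of_two_lt [Finite M] (two : ∀ m : M, m + m = 0) (C : AddSubgroup M) (h : 2 < Nat.card C) :
    4 ≤ Nat.card C := by
  have h3 : Nontrivial C := (Finite.one_lt_card_iff_nontrivial).1 (by omega)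
  obtain ⟨x, hx⟩ := exists_ne (0 : C)
  have h6 : addOrderOf x ∣ Nat.card C := addOrderOf_dvd_natCard x
  have h7 : addOrderOf x = 2 := by
    refine addOrderOf_eq_prime ?_ hx
    rw [two_nsmul]
    exact Subtype.ext (two x)
  rw [h7] at h6
  omega

/-- `A` minimal exact of order `≥ 4`: `|[v, A]| ≥ 4` for `v ∉ C_M(A)`. -/
theorem big_of_min [Finite H] [Finite M] (two : ∀ m : M, m + m = 0) {U : M → AddSubgroup M} {lam : M}
    {A : Subgroup H} (me : ME U lam A) (h4 : 4 ≤ Nat.card A) (v : M) (hv : v ∉ cv M A) :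
    4 ≤ Nat.card (cs (U lam) v A me.le) := by
  have h1 := card_cs (m := v) me.le
  by_cases h0 : ca v A = ⊥
  · rw [h0, Subgroup.card_bot, one_mul] at h1
    omega
  · have hle : ca v A ≤ A := inf_le_left
    have hne : ca v A ≠ A := by
      intro h2
      refine hv fun a ha => ?_
      rw [← h2] at ha
      exact ha.2
    have h2 := me.min _ hle h0 hne
    have h3 : Nat.card (cv M A) * 2 ≤ Nat.card (cv M (ca v A)) := by
      have h5 : cv M A ≤ cv M (ca v A) := cv_anti hle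
      have h6 := card_mul_relIndex h5
      have h7 : 2 ≤ (cv M A).relIndex (cv M (ca v A)) := by
        have h8 : (cv M A).relIndex (cv M (ca v A)) ≠ 0 := by
          intro h9
          rw [h9, mul_zero] at h6
          have := Nat.card_pos (α := cv M (ca v A))
          omega
        have h9 : (cv M A).relIndex (cv M (ca v A)) ≠ 1 := by
          intro h10
          exact hv (AddSubgroup.relIndex_eq_one.1 h10 (show v ∈ cv M (ca v A) from fun a ha => ha.2))
        omega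
      rw [← h6]
      exact Nat.mul_le_mul_left _ h7
    rw [← me.ex, h1] at h2
    refine four_le_of_two_lt two _ ?_
    have h8 : 0 < Nat.card (ca v A) := Nat.card_pos
    have h9 : 0 < Nat.card (cv M A) := Nat.card_pos
    by_contra h10
    have h11 : Nat.card (cs (U lam) v A me.le) ≤ 2 := by omega
    have h12 : Nat.card (ca v A) * Nat.card (cs (U lam) v A me.le) * Nat.card (cv M A) ≤
        Nat.card (ca v A) * Nat.card (cv M (ca v A)) := by
      calc Nat.card (ca v A) * Nat.card (cs (U lam) v A me.le) * Nat.card (cv M A)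
          ≤ Nat.card (ca v A) * 2 * Nat.card (cv M A) :=
            Nat.mul_le_mul_right _ (Nat.mul_le_mul_left _ h11)
        _ = Nat.card (ca v A) * (Nat.card (cv M A) * 2) := by ring
        _ ≤ Nat.card (ca v A) * Nat.card (cv M (ca v A)) := Nat.mul_le_mul_left _ h3
    omega

/-- `A` exact, and the centralisers in `M` of subgroups of `A` are subspaces over a field of order `≥ 4`. -/
theorem big_of_exact [Finite H] [Finite M] {U : AddSubgroup M} {A : Subgroup H} (hA : A ≤ bb U)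
    (ex : Nat.card A * Nat.card (cv M A) = Nat.card M)
    (no : ∀ B : Subgroup H, B ≤ A → Nat.card B * Nat.card (cv M B) ≤ Nat.card M)
    (fld : ∀ B : Subgroup H, B ≤ A → cv M A ≠ cv M B → 4 * Nat.card (cv M A) ≤ Nat.card (cv M B))
    (v : M) (hv : v ∉ cv M A) : 4 ≤ Nat.card (cs U v A hA) := by
  have h1 := card_cs (m := v) hA
  have hle : ca v A ≤ A := inf_le_left
  have h2 := no _ hle
  have h3 := fld _ hle (by
    intro h4
    refine hv ?_
    rw [h4]
    exact fun a ha => ha.2)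
  have h8 : 0 < Nat.card (ca v A) := Nat.card_pos
  have h9 : 0 < Nat.card (cv M A) := Nat.card_pos
  have h10 : (Nat.card (ca v A) * Nat.card (cv M A)) * 4 ≤
      (Nat.card (ca v A) * Nat.card (cv M A)) * Nat.card (cs U v A hA) := by
    calc (Nat.card (ca v A) * Nat.card (cv M A)) * 4 = Nat.card (ca v A) * (4 * Nat.card (cv M A)) := by ring
      _ ≤ Nat.card (ca v A) * Nat.card (cv M (ca v A)) := Nat.mul_le_mul_left _ h3
      _ ≤ Nat.card A * Nat.card (cv M A) := by rw [ex]; exact h2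
      _ = _ := by rw [h1]; ring
  exact Nat.le_of_mul_le_mul_left h10 (Nat.mul_pos h8 h9)

/-- THEOREM ONE for `s = 2` again: a minimal exact `A ≤ B_λ` of order `≥ 4` has a line vector in `[M, A]`. -/
theorem exists_lam [Finite H] [Finite M] {Lam : Set M} {U : M → AddSubgroup M} {lam : M} {A : Subgroup H}
    (s : Sys H Lam U) (hl : lam ∈ Lam) (me : ME U lam A) (h4 : 4 ≤ Nat.card A) :
    ∃ r ∈ cm M A, r ∈ Lam := by
  obtain ⟨f, hf, hf1⟩ := (Subgroup.bot_or_exists_ne_one A).resolve_left me.ne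
  obtain ⟨h, hh, ho, hi⟩ := s.bs hl _ (me.le hf) hf1
  have v : Mv Lam U lam f h := ⟨hl, me.le hf, hf1, hh, ho, hi⟩
  let L : AddSubgroup M :=
    { carrier := {x | x = 0 ∨ x = lam}
      add_mem' := by
        rintro a b (rfl | rfl) (rfl | rfl)
        · left; rw [add_zero]
        · right; rw [zero_add]
        · right; rw [add_zero]
        · left; rw [s.two]
      zero_mem' := Or.inl rfl
      neg_mem' := by
        rintro a (rfl | rfl)
        · left; rw [neg_zero]
        · right; rw [s.neg_eq] }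
  obtain ⟨r, hr, -, hr'⟩ := sum_main (L := L) s.two hl (s.mem hl) (fun g _ hv => s.smul g hv)
    (fun r hr hr0 => by
      rcases hr with h1 | h1
      · exact absurd h1 hr0
      · rw [h1]; exact hl)
    (fun w hw hwL hwn => s.coll hl hwL hw fun h1 => hwn (Or.inr h1))
    (Or.inr rfl) me.le (big_of_min s.two me h4) hf hi ho (v.hmov s)
    (fun u hu h1 => smul_left_cancel h (v.fix s (s.conj h hl hu) h1).1)
  exact ⟨r, hr, hr'⟩

end Cfsg.Agent.Omega.NOThree.LL.OrbSum

end

section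


/-!
# THEOREM SUM (OMEGA, NO-3S; helper244) over the frame of THEOREM ONE_s; K-free

`Sit.exists_line_of_reg` : `A` with `C_M(a) = C_M(A)` for `1 ≠ a ∈ A`, `|A| ≥ 4` ⟹ `[M, A]` contains a line vector.
-/

set_option autoImplicit false
set_option maxHeartbeats 400000

namespace Cfsg.Agent.Omega.NO3S.OneS

open Subgroup Cfsg.Agent.ClassTwoFusion.Quad Cfsg.Agent.Omega.NOThree.NoOver
open scoped Pointwise

variable {H : Type*} [Group H] {M : Type*} [Group M] [MulDistribMulAction H M]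

omit [Group H] [MulDistribMulAction H M] in
/-- the additive group -/
@[reducible] def addGrp (sq : ∀ m : M, m * m = 1) : AddCommGroup (Additive M) :=
  { (inferInstance : AddGroup (Additive M)) with
    add_comm := fun a b => congrArg Additive.ofMul (OneS.mc sq a.toMul b.toMul) }

/-- the additive action -/
@[reducible] def addAct (H : Type*) [Group H] {M : Type*} [Group M] [MulDistribMulAction H M]
    (sq : ∀ m : M, m * m = 1) : @DistribMulAction H (Additive M) _ (addGrp sq).toAddMonoid :=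
  letI := addGrp sq
  { smul := fun h m => Additive.ofMul (h • m.toMul)
    one_smul := fun m => by change Additive.ofMul ((1 : H) • m.toMul) = m; rw [one_smul]; rfl
    mul_smul := fun a b m => by
      change Additive.ofMul ((a * b) • m.toMul) = Additive.ofMul (a • (b • m.toMul))
      rw [mul_smul]
    smul_zero := fun a => by change Additive.ofMul (a • (1 : M)) = 0; rw [smul_one]; rfl
    smul_add := fun a m n => by
      change Additive.ofMul (a • (m.toMul * n.toMul)) = Additive.ofMul (a • m.toMul * (a • n.toMul))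
      rw [smul_mul'] }

namespace Sit

variable {lam U : Subgroup M} {A : Subgroup H} {f h : H} (S : Sit lam U A f h)
include S

/-- **THEOREM SUM** -/
theorem exists_line_of_reg [Finite H] [Finite M] (hreg : ∀ a ∈ A, a ≠ 1 → ∀ m : M, a • m = m → m ∈ cv M (A : Set H))
    (h4 : 4 ≤ Nat.card A) : ∃ v ∈ br A, v ∈ Lam H lam := by
  letI : AddCommGroup (Additive M) := addGrp S.F.sq
  letI : DistribMulAction H (Additive M) := addAct H S.F.sq
  let U' : AddSubgroup (Additive M) := Subgroup.toAddSubgroup U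
  let L' : AddSubgroup (Additive M) := Subgroup.toAddSubgroup lam
  have two : ∀ m : Additive M, m + m = 0 := fun m => S.F.sq m.toMul
  have hneg : ∀ m : M, -(Additive.ofMul m) = Additive.ofMul m := fun m => congrArg Additive.ofMul (OneS.iv S.F.sq m)
  have hBb : A ≤ NOThree.LL.One.bb U' := fun b hb => ⟨fun u hu => (S.hA b hb).1 u hu, fun m => by
    have h1 := (S.hA b hb).2 m.toMul
    have h2 : b • m - m = Additive.ofMul (b • m.toMul * m.toMul) := by
      rw [sub_eq_add_neg]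
      have := hneg m.toMul
      exact congrArg (fun x => Additive.ofMul (b • m.toMul) + x) this
    rw [h2]
    exact h1⟩
  obtain ⟨a, ha, ha1⟩ := S.F.exists_ne
  have big : ∀ v : Additive M, v ∉ NOThree.LL.One.cv (Additive M) A →
      4 ≤ Nat.card (NOThree.LL.One.cs U' v A hBb) := by
    intro v hv
    have h1 := NOThree.LL.One.card_cs (m := v) hBb
    have h2 : NOThree.LL.One.ca v A = ⊥ := by
      rw [eq_bot_iff_forall]
      intro c hc
      by_contra hc1
      exact hv fun b hb => hreg c hc.1 hc1 v.toMul hc.2 b hb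
    rw [h2, Subgroup.card_bot, one_mul] at h1
    rw [← h1]
    exact h4
  have hmov : h • a ≠ a := by
    intro hc
    have h1 : h • lam ⊓ lam ≠ ⊥ := ne_bot_iff'.2 ⟨a, ⟨by
      have := smul_mem_pointwise_smul a h _ ha
      rwa [hc] at this, ha⟩, ha1⟩
    exact S.lam_ne (S.F.ti _ h1).symm
  have hmain := NOThree.LL.OrbSum.sum_main (H := H) (M := Additive M) two
    (Lam := {x : Additive M | x.toMul ∈ Lam H lam}) (U := U') (L := L')
    (lam := Additive.ofMul a) (A := A) (f := f) (h := h)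
    ⟨ha1, 1, by rw [one_smul]; exact ha⟩ (S.F.le ha)
    (by
      rintro g v ⟨hv1, k, hk⟩
      refine ⟨?_, g * k, ?_⟩
      · intro hc
        apply hv1
        change g • v.toMul = 1 at hc
        rwa [smul_eq_iff_eq_inv_smul, smul_one] at hc
      · rw [mul_smul]
        exact smul_mem_pointwise_smul _ _ _ hk)
    (fun r hr hr0 => ⟨hr0, 1, by rw [one_smul]; exact hr⟩)
    (by
      rintro v hv ⟨hv1, k, hk⟩ hvL
      have h1 : k • lam ≠ lam := fun hc => hvL (by
        change v.toMul ∈ lam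
        rw [← hc]
        exact hk)
      have h2 : v.toMul * a ≠ 1 := fun hc => hvL (by
        change v.toMul ∈ lam
        rw [eqm S.F.sq hc]
        exact ha)
      exact S.F.coll k h1 (ne_bot_iff'.2 ⟨v.toMul, ⟨hk, hv⟩, hv1⟩) _ (mul_mem (mem_sup_left hk) (mem_sup_right ha)) h2)
    ha hBb big S.hf (by rw [inv_eq_of_mul_eq_one_right S.ff]; exact S.hinv) S.hodd hmov
    (fun u hu h1 => by
      have h2 := S.h_fix (smul_mem_pointwise_smul u.toMul h _ hu) h1
      exact smul_left_cancel h h2)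
  obtain ⟨r, hr, hr0, hrL⟩ := hmain
  refine ⟨r.toMul, ?_, hrL⟩
  have h9 : NOThree.LL.One.cm (Additive M) A ≤ Subgroup.toAddSubgroup (br A) :=
    NOThree.LL.One.cm_le fun c hc m => by
      have h2 : c • m - m = Additive.ofMul (c • m.toMul * m.toMul) := by
        rw [sub_eq_add_neg]
        exact congrArg (fun x => Additive.ofMul (c • m.toMul) + x) (hneg m.toMul)
      rw [h2]
      exact mem_br hc m.toMul
  exact h9 hr

end Sit

end Cfsg.Agent.Omega.NO3S.OneS

end

section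


/-!
# THEOREM INN_s (OMEGA, NO-3S MidQ, `s ≥ 4`; helper49, end by helper426); K-free, no torus, no field

`Inn.br_le_of_inv` : `A` exact, invariant under `J` (a 2-group inducing all `u ↦ u + φ(u)` on `U`), (***), (T)
⟹ `[M, A] ≤ lam`.  `Inn.br_le_lam` : the same without the invariance.
-/

set_option autoImplicit false
set_option maxHeartbeats 400000

namespace Cfsg.Agent.Omega.NO3S.OneS

open Subgroup Cfsg.Agent.ClassTwoFusion.Quad Cfsg.Agent.Omega.NOThree.NoOver
open scoped Pointwise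

variable {H : Type*} [Group H] {M : Type*} [Group M] [MulDistribMulAction H M]

/-- `m ↦ [m, s]` -/
def dh (sq : ∀ m : M, m * m = 1) (s : H) : M →* M where
  toFun m := s • m * m
  map_one' := by rw [smul_one, one_mul]
  map_mul' a b := phi_mul sq s a b

theorem mem_dh {sq : ∀ m : M, m * m = 1} {s : H} {x : M} : x ∈ (dh sq s).range ↔ ∃ m : M, x = s • m * m := by
  constructor
  · rintro ⟨m, hm⟩
    exact ⟨m, hm.symm⟩
  · rintro ⟨m, hm⟩
    exact ⟨m, hm.symm⟩

/-- (F2') : a 2-group `J` -/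
structure JJ (J : Subgroup H) (lam U : Subgroup M) : Prop where
  p2 : IsPGroup 2 J
  fx : ∀ k ∈ J, ∀ z ∈ lam, k • z = z
  cl : ∀ k ∈ J, ∀ u ∈ U, k • u * u ∈ lam
  on : ∀ u ∈ U, u ∉ lam → ∀ z ∈ lam, ∃ k ∈ J, k • u = u * z

theorem JJ.semi {J : Subgroup H} {lam U : Subgroup M} (j : JJ J lam U) {k : H} (hk : k ∈ J) : Semi lam U k :=
  ⟨smul_eq_of_fix (j.fx k hk), j.cl k hk⟩

namespace At

variable {lam U : Subgroup M} {A A₁ : Subgroup H} {f h : H} (Q : At lam U A A₁ f h) [Finite H] [Finite M]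
include Q

/-- (5') : there is a second atom `A₃` centralising `V` : `|[M, A₁]| ≤ s`, `[M, A₁] ≤ [M, A₃]` -/
theorem br_le_of_fix (hT : FattS lam U A) {A₃ : Subgroup H} {f₃ h₃ : H} (Q₃ : At lam U A A₃ f₃ h₃)
    (h3V : ∀ b ∈ A₃, ∀ v ∈ h • U, b • v = v) :
    (br A₁ : Subgroup M) ≤ br A₃ ∧ Nat.card (br A₁ : Subgroup M) ≤ Nat.card lam := by
  have S := Q.S
  have h3b : ∀ b ∈ A₃, IsBB U b := fun b hb => Q₃.S.hA b hb
  have h3c : Nat.card A₃ = Nat.card lam := Q₃.card_A hT
  have h3ff : ∀ b ∈ A₃, b * b = 1 := fun b hb => S.F.bb_sq (h3b b hb)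
  -- `m ∈ M`, `b ∈ A₃` with `[m, b] ∉ D`
  obtain ⟨m, b₀, hb₀, hu₀⟩ : ∃ m : M, ∃ b₀ ∈ A₃, b₀ • m * m ∉ U ⊓ h • U := by
    by_contra hcon
    push Not at hcon
    have h1 : (br A₃ : Subgroup M) ≤ U ⊓ h • U := br_le fun b hb m => hcon m b hb
    obtain ⟨v, hv, hvL⟩ := Q₃.S.exists_line_of_reg (fun a ha ha1 m hm => Q₃.cv_eq ha ha1 hm) (by
      rw [h3c]
      exact S.F.four)
    exact Q.wdX Q₃.le v (h1 hv) hv hvL
  -- `Y = [m, A₃] [m, A₃^f₁]`
  set Y₁ := (im S.F.sq h3b m).range with hY₁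
  have hVb : ∀ y ∈ cj (h * f) A₃, IsBB (h • U) y := by
    intro y hy
    rw [mem_cj] at hy
    have h1 := isBB_conj (h * f) (h3b _ hy)
    rw [S.f1_U] at h1
    have h2 : (h * f) * ((h * f)⁻¹ * y * (h * f)) * (h * f)⁻¹ = y := by group
    rwa [h2] at h1
  set Y₂ := (im S.F.sq hVb m).range with hY₂
  have hY₂f : ∀ x ∈ Y₂, ∃ b ∈ A₃, x = (h * f) • (b • ((h * f) • m) * ((h * f) • m)) := by
    intro x hx
    obtain ⟨y, hy, rfl⟩ := mem_im.1 hx
    rw [mem_cj, S.f1_inv] at hy
    refine ⟨_, hy, ?_⟩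
    rw [S.f1_im, S.f1_f1]
    congr 2
    have : (h * f) * ((h * f) * y * (h * f)) * (h * f) = ((h * f) * (h * f)) * y * ((h * f) * (h * f)) := by group
    rw [this, S.f1_sq, one_mul, mul_one]
  have hY₂m : ∀ b ∈ A₃, (h * f) • (b • ((h * f) • m) * ((h * f) • m)) ∈ Y₂ := by
    intro b hb
    refine mem_im.2 ⟨(h * f) * b * (h * f), ?_, ?_⟩
    · rw [mem_cj]
      have : (h * f)⁻¹ * ((h * f) * b * (h * f)) * (h * f) = b * ((h * f) * (h * f)) := by group
      rw [this, S.f1_sq, mul_one]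
      exact hb
    · rw [S.f1_im, S.f1_f1]
  have hc1 : Nat.card Y₁ ≤ Nat.card lam := by
    rw [← h3c, ← card_im S.F.sq h3b m]
    exact Nat.le_mul_of_pos_right _ Nat.card_pos
  have hc2 : Nat.card Y₂ ≤ Nat.card lam := by
    rw [← h3c, ← card_cj (h * f) A₃, ← card_im S.F.sq hVb m]
    exact Nat.le_mul_of_pos_right _ Nat.card_pos
  have hY₁U : Y₁ ≤ U := by
    intro x hx
    obtain ⟨b, hb, rfl⟩ := mem_im.1 hx
    exact (h3b b hb).2 m
  have hY₂V : Y₂ ≤ h • U := by
    intro x hx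
    obtain ⟨b, hb, rfl⟩ := mem_im.1 hx
    exact (hVb b hb).2 m
  -- `[[m, b], y] ∈ Y₂`
  have hyY : ∀ b ∈ A₃, ∀ y ∈ cj (h * f) A₁, y • (b • m * m) * (b • m * m) ∈ Y₂ := by
    intro b hb y hy
    obtain ⟨h1, h2⟩ := Q.comm h3b (Q₃.S.hex) h3V hb hy
    exact mem_im.2 ⟨_, h1, h2 m⟩
  -- `[[m, z], a] ∈ Y₁`, `z ∈ A₃^f₁`, `a ∈ A₁`
  have haY : ∀ x ∈ Y₂, ∀ a ∈ A₁, a • x * x ∈ Y₁ := by
    intro x hx a ha
    obtain ⟨b, hb, rfl⟩ := hY₂f x hx
    obtain ⟨h1, h2⟩ := Q.comm h3b (Q₃.S.hex) h3V hb (S.f1_cj ha)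
    have h3 := h2 ((h * f) • m)
    have h4 : a • (h * f) • (b • ((h * f) • m) * ((h * f) • m)) * (h * f) • (b • ((h * f) • m) * ((h * f) • m)) =
        (h * f) • (((h * f) * a * (h * f)) • (b • ((h * f) • m) * ((h * f) • m)) *
          (b • ((h * f) • m) * ((h * f) • m))) := by
      rw [smul_mul' (h * f) (((h * f) * a * (h * f)) • _), mul_smul ((h * f) * a), mul_smul (h * f) a,
        S.f1_f1]
    rw [h4, h3]
    rw [mem_cj, S.f1_inv] at h1
    refine mem_im.2 ⟨_, h1, ?_⟩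
    set κ := (h * f) * a * (h * f) * b * ((h * f) * a * (h * f)) * b with hκ
    rw [smul_mul', S.f1_f1, mul_smul ((h * f) * κ), mul_smul (h * f) κ]
  -- `[u₀, B]`
  set u₀ := b₀ • m * m with hu₀'
  have hu₀U : u₀ ∈ U := (h3b b₀ hb₀).2 m
  have hBb : ∀ y ∈ cj (h * f) A₁, IsBB (h • U) y := fun y hy => S.B_bb hy
  set X := (im S.F.sq hBb u₀).range with hX
  have hXY : X ≤ Y₂ := by
    intro x hx
    obtain ⟨y, hy, rfl⟩ := mem_im.1 hx
    exact hyY b₀ hb₀ y hy
  have hXc : Nat.card X = Nat.card lam := by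
    have h1 := card_im S.F.sq hBb u₀
    have h2 : cj (h * f) A₁ ⊓ MulAction.stabilizer H u₀ = ⊥ := by
      rw [eq_bot_iff_forall]
      rintro y ⟨hy, hy'⟩
      by_contra hy1
      exact hu₀ (Q.mem_D_of_fix' hy hy1 hu₀U (MulAction.mem_stabilizer_iff.1 hy'))
    rw [h2, card_bot, mul_one, ← hX] at h1
    rw [h1, card_cj, Q.card_A hT]
  have hXe : X = Y₂ := eq_of_le_of_card_ge hXY (by rw [hXc]; exact hc2)
  -- `[M, A₁] ≤ Y₁`
  have hR : (br A₁ : Subgroup M) ≤ Y₁ := by
    refine br_le fun a ha x => ?_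
    obtain ⟨v, hv, c, hc, rfl⟩ := S.r3 x
    obtain ⟨y, hy, d, hd, rfl⟩ := Q.onto hu₀U hu₀ hv
    rw [phi_mul S.F.sq, (hc a ha : a • c = c), S.F.sq, mul_one, phi_mul S.F.sq, (S.hA a ha).1 d hd.1, S.F.sq, mul_one]
    exact haY _ (hXY (mem_im.2 ⟨y, hy, rfl⟩)) a ha
  refine ⟨hR.trans fun x hx => ?_, (Subgroup.card_le_of_le hR).trans hc1⟩
  obtain ⟨b, hb, rfl⟩ := mem_im.1 hx
  exact mem_br hb m

/-- `|A₁| ≤ |[M, A₁]|` -/
theorem card_le_br : Nat.card A₁ ≤ Nat.card (br A₁ : Subgroup M) := by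
  obtain ⟨z, hz, hz1⟩ := Q.S.exists_mu
  have h1 := card_im Q.S.F.sq Q.S.hA z
  rw [(Q.S.key hz hz1).1, card_bot, mul_one] at h1
  rw [← h1]
  refine Subgroup.card_le_of_le fun x hx => ?_
  obtain ⟨b, hb, rfl⟩ := mem_im.1 hx
  exact mem_br hb z

/-- `C_A(μ) ≠ 1` if `A₁ ≠ A` -/
theorem fix_ne {X : Subgroup H} (hX : X ≤ A) (h1 : A₁ ≤ X) (hne : A₁ ≠ X) :
    X ⊓ fixingSubgroup H ((h • lam : Subgroup M) : Set M) ≠ ⊥ := by
  intro hc
  have h2 := Q.split_sup hX h1
  rw [hc, sup_bot_eq] at h2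
  exact hne h2

/-- `A₁ ≠ A` : `|[M, A₁]| = s` -/
theorem card_br (hT : FattS lam U A) (hex : fo M A = Nat.card M) (hne : A₁ ≠ A) :
    Nat.card (br A₁ : Subgroup M) = Nat.card lam := by
  obtain ⟨A₃, h3P, f₃, h₃, Q₃⟩ := Q.I.exists_at (X := A ⊓ fixingSubgroup H ((h • lam : Subgroup M) : Set M))
    inf_le_left (Q.fix_ne le_rfl Q.le hne) (Q.split_exact hT le_rfl Q.le hex)
  refine le_antisymm (Q.br_le_of_fix hT Q₃ fun b hb v hv => Q.fix_V le_rfl (h3P hb) v hv).2 ?_
  rw [← Q.card_A hT]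
  exact Q.card_le_br

/-- `A₁ ≠ A` : `[M, A] = [M, A₁]` -/
theorem br_eq (hT : FattS lam U A) (hex : fo M A = Nat.card M) (hne : A₁ ≠ A) : (br A : Subgroup M) ≤ br A₁ := by
  set P := A ⊓ fixingSubgroup H ((h • lam : Subgroup M) : Set M) with hP
  -- `[M, X] ≤ [M, A₁]` for all exact `X ≤ P`
  have hall : ∀ (n : ℕ) (X : Subgroup H), Nat.card X ≤ n → X ≤ P → fo M X = Nat.card M → br X ≤ (br A₁ : Subgroup M) := by
    intro n
    induction n with
    | zero =>
      intro X hX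
      have : 0 < Nat.card X := Nat.card_pos
      omega
    | succ n ih =>
      intro X hX hXP hXex
      have hXA : X ≤ A := hXP.trans inf_le_left
      by_cases hX1 : X = ⊥
      · subst hX1
        refine br_le fun a ha m => ?_
        rw [mem_bot.1 ha, one_smul, Q.S.F.sq]
        exact one_mem _
      obtain ⟨A₃, h1, f₃, h₃, Q₃⟩ := Q.I.exists_at hXA hX1 hXex
      have h2 := Q₃.split_exact hT hXA h1 hXex
      have h3 := Q₃.split_card hXA h1
      have h4 : 2 ≤ Nat.card A₃ := by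
        rw [Q₃.card_A hT]
        have := Q.S.F.four
        omega
      have h5 : 0 < Nat.card (X ⊓ fixingSubgroup H ((h₃ • lam : Subgroup M) : Set M) : Subgroup H) := Nat.card_pos
      have h6 := ih (X ⊓ fixingSubgroup H ((h₃ • lam : Subgroup M) : Set M)) (by nlinarith)
        (inf_le_left.trans hXP) h2
      have h7 : (br A₃ : Subgroup M) ≤ br A₁ := by
        have h8 := (Q.br_le_of_fix hT Q₃ fun b hb v hv => Q.fix_V le_rfl (hXP (h1 hb)) v hv).1
        have hne3 : A₃ ≠ A := by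
          rintro rfl
          have h9 : A₁ ≤ P := Q.le.trans (h1.trans hXP)
          have h10 := Q.split_inf (X := A₃)
          rw [← hP, inf_eq_left.2 h9] at h10
          apply Q.S.hmov
          have h11 : f = 1 := mem_bot.1 (h10 ▸ Q.S.hf)
          rw [h11, one_smul]
        have h9 := eq_of_le_of_card_ge h8 (by rw [Q.card_br hT hex hne, Q₃.card_br hT hex hne3])
        exact h9.ge
      refine br_le fun a ha m => ?_
      rw [← Q₃.split_sup hXA h1] at ha
      have h8 : A₃ ⊔ X ⊓ fixingSubgroup H ((h₃ • lam : Subgroup M) : Set M) ≤ bx H Q.S.F.sq U (br A₁) := by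
        refine sup_le ?_ ?_
        · exact fun a ha => ⟨Q.I.hA a (hXA (h1 ha)), fun m => h7 (mem_br ha m)⟩
        · exact fun a ha => ⟨Q.I.hA a (hXA ha.1), fun m => h6 (mem_br ha m)⟩
      exact (h8 ha).2 m
  have hPex := Q.split_exact hT le_rfl Q.le hex
  have h1 := hall _ P le_rfl le_rfl hPex
  refine br_le fun a ha m => ?_
  rw [← Q.split_sup le_rfl Q.le] at ha
  have h8 : A₁ ⊔ P ≤ bx H Q.S.F.sq U (br A₁) := by
    refine sup_le ?_ ?_
    · exact fun a ha => ⟨Q.S.hA a ha, fun m => mem_br ha m⟩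
    · exact fun a ha => ⟨Q.I.hA a ha.1, fun m => h1 (mem_br ha m)⟩
  exact (h8 ha).2 m

/-- (4') : `A` is an atom -/
theorem br_le_of_eq {J : Subgroup H} (j : JJ J lam U) (hT : FattS lam U A) (hJ : ∀ k ∈ J, ∀ a ∈ A, k * a * k⁻¹ ∈ A)
    (he : A₁ = A) : br A₁ ≤ lam := by
  subst he
  have S := Q.S
  have hff : ∀ a ∈ A₁, a * a = 1 := fun a ha => S.F.bb_sq (S.hA a ha)
  -- a fixed point of `J`
  obtain ⟨s₀, hs₀, hs₀1, hs₀J⟩ : ∃ s₀ ∈ A₁, s₀ ≠ 1 ∧ ∀ k ∈ J, k * s₀ * k⁻¹ = s₀ := by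
    have hfact : Fact (Nat.Prime 2) := ⟨Nat.prime_two⟩
    have h1 : IsPGroup 2 A₁ := by
      intro a
      refine ⟨1, Subtype.ext ?_⟩
      change (a : H) ^ (2 ^ 1) = 1
      rw [pow_one, pow_two, hff a a.2]
    have h2 : A₁ ≠ ⊥ := by
      intro hc
      have h3 := S.hf
      rw [hc, mem_bot] at h3
      apply S.hmov
      rw [h3, one_smul]
    have h3 : J ≤ normalizer (A₁ : Set H) := by
      intro k hk
      rw [mem_normalizer_iff]
      intro a
      refine ⟨hJ k hk a, fun ha => ?_⟩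
      have h4 := hJ k⁻¹ (J.inv_mem hk) _ ha
      have h5 : k⁻¹ * (k * a * k⁻¹) * k⁻¹⁻¹ = a := by group
      rwa [h5] at h4
    have h4 := PLocal.OffenderStep.inf_centralizer_ne_bot A₁ J h1 j.p2 h3 h2
    obtain ⟨s₀, ⟨hs, hsJ⟩, hs1⟩ := ne_bot_iff'.1 h4
    refine ⟨s₀, hs, hs1, fun k hk => ?_⟩
    rw [mem_centralizer_iff.1 hsJ k hk, mul_inv_cancel_right]
  have hcard : Nat.card A₁ = Nat.card lam := Q.card_A hT
  -- `[M, s₀] ≤ lam`
  have h1 : ∀ m : M, s₀ • m * m ∈ lam := by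
    set Z := (dh S.F.sq s₀).range with hZ
    have hZc : Nat.card Z = Nat.card lam := by
      have h3 := Subgroup.index_ker (dh S.F.sq s₀)
      have h4 := Subgroup.card_mul_index (dh S.F.sq s₀).ker
      have h5 : (dh S.F.sq s₀).ker = cv M (A₁ : Set H) := by
        ext m
        rw [MonoidHom.mem_ker]
        constructor
        · intro h6
          exact Q.cv_eq hs₀ hs₀1 (eqm S.F.sq h6)
        · intro h6
          change s₀ • m * m = 1
          rw [(h6 s₀ hs₀ : s₀ • m = m), S.F.sq]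
      have h6 := S.hex
      unfold fo at h6
      rw [h3, h5, ← h6, mul_comm] at h4
      rw [← hcard]
      exact Nat.eq_of_mul_eq_mul_right Nat.card_pos h4
    have hZJ : ∀ x ∈ Z, ∀ k ∈ J, k • x ∈ Z := by
      intro x hx k hk
      obtain ⟨m, rfl⟩ := mem_dh.1 hx
      refine mem_dh.2 ⟨k • m, ?_⟩
      have h4 := hs₀J k hk
      have h5 : s₀ * k = k * s₀ := by
        have h6 : s₀ * k = k * s₀ * k⁻¹ * k := by rw [h4]
        rw [h6, inv_mul_cancel_right]
      rw [smul_mul', ← mul_smul, ← mul_smul, h5]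
    intro m
    by_contra hm
    have hmZ : s₀ • m * m ∈ Z := mem_dh.2 ⟨m, rfl⟩
    have h3 : lam ≤ Z := by
      intro z hz
      obtain ⟨k, hk, hku⟩ := j.on _ ((S.hA s₀ hs₀).2 m) hm z hz
      have h4 := hZJ _ hmZ k hk
      rw [hku] at h4
      have h5 := mul_mem hmZ h4
      rwa [aa S.F.sq] at h5
    have h4 : lam = Z := eq_of_le_of_card_ge h3 hZc.le
    exact hm (h4 ▸ hmZ)
  -- `J` is trivial on `M/C_M(A₁)`
  have h2 : ∀ k ∈ J, ∀ m : M, k • m * m ∈ cv M (A₁ : Set H) := by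
    intro k hk m
    apply Q.cv_eq hs₀ hs₀1
    have h3 : s₀ • k • m = k • s₀ • m := by
      have h4 := hs₀J k hk
      have h5 : s₀ * k = k * s₀ := by
        have h6 : s₀ * k = k * s₀ * k⁻¹ * k := by rw [h4]
        rw [h6, inv_mul_cancel_right]
      rw [← mul_smul, h5, mul_smul]
    have h4 : s₀ • m = (s₀ • m * m) * m := by rw [mul_assoc, S.F.sq, mul_one]
    have h5 : k • s₀ • m = (s₀ • m * m) * k • m := by
      rw [h4, smul_mul', j.fx k hk _ (h1 m)]
      rw [mul_assoc (s₀ • m * m), S.F.sq, mul_one]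
    rw [smul_mul', h3, h5]
    rw [mul_assoc, S.F.mc (k • m) (s₀ • m), ← mul_assoc, mul_assoc (s₀ • m) m, S.F.mc m (s₀ • m), ← mul_assoc,
      S.F.sq, one_mul, S.F.mc]
  refine br_le fun s' hs' m => ?_
  by_contra hu
  set u := s' • m * m with hu'
  have huU : u ∈ U := (S.hA s' hs').2 m
  have hA0 : ∀ x ∈ A₁ ⊓ bx H S.F.sq U lam, IsBB U x := fun x hx => hx.2.1
  have h3 : lam ≤ (im S.F.sq hA0 m).range := by
    intro z hz
    obtain ⟨k, hk, hku⟩ := j.on u huU hu z hz
    have hks : k * s' * k⁻¹ ∈ A₁ := hJ k hk s' hs'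
    have h4 : ∀ n : M, (k * s' * k⁻¹) • n * n = k • (s' • n * n) := by
      intro n
      have h5 := h2 k⁻¹ (J.inv_mem hk) n
      have h6 : k⁻¹ • n = (k⁻¹ • n * n) * n := by rw [mul_assoc, S.F.sq, mul_one]
      have h7 : s' • k⁻¹ • n = (k⁻¹ • n) * (s' • n * n) := by
        have h8 : s' • (k⁻¹ • n * n) = k⁻¹ • n * n := h5 s' hs'
        rw [h6, smul_mul', h8]
        simp only [mul_assoc]
        rw [S.F.mc n (s' • n * n), mul_assoc, S.F.sq, mul_one]
      rw [mul_smul, mul_smul, h7, smul_mul', smul_inv_smul, S.F.mc n, mul_assoc, S.F.sq, mul_one]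
    have h5 : ∀ n : M, (k * s' * k⁻¹ * s') • n * n = k • (s' • n * n) * (s' • n * n) := by
      intro n
      rw [smul_mul_self S.F.sq, (S.hA _ hks).1 _ ((S.hA s' hs').2 n), h4, S.F.mc]
    refine mem_im.2 ⟨k * s' * k⁻¹ * s', ⟨mul_mem hks hs', S.hA _ (mul_mem hks hs'), fun n => ?_⟩, ?_⟩
    · rw [h5]
      exact j.cl k hk _ ((S.hA s' hs').2 n)
    · rw [h5, hku, S.F.mc u z, mul_assoc, S.F.sq, mul_one]
  have h4 := card_im S.F.sq hA0 m
  have h5 : Nat.card A₁ ≤ Nat.card (A₁ ⊓ bx H S.F.sq U lam : Subgroup H) := by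
    rw [hcard, ← h4]
    exact (Subgroup.card_le_of_le h3).trans (Nat.le_mul_of_pos_right _ Nat.card_pos)
  have h6 : A₁ ⊓ bx H S.F.sq U lam = A₁ := eq_of_le_of_card_ge inf_le_left h5
  have h7 : s' ∈ A₁ ⊓ bx H S.F.sq U lam := by
    rw [h6]
    exact hs'
  exact hu (h7.2.2 m)

end At

namespace Inn

variable {lam U : Subgroup M} {A : Subgroup H} (I : Inn H lam U A) [Finite H] [Finite M] {J : Subgroup H}
include I

/-- `A` invariant under `J` -/
theorem br_le_of_inv (j : JJ J lam U) (hT : FattS lam U A) (hex : fo M A = Nat.card M)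
    (hJ : ∀ k ∈ J, ∀ a ∈ A, k * a * k⁻¹ ∈ A) : br A ≤ lam := by
  by_cases hA1 : A = ⊥
  · subst hA1
    refine br_le fun a ha m => ?_
    rw [mem_bot.1 ha, one_smul, I.F.sq]
    exact one_mem _
  obtain ⟨A₁, h1, f, h, Q⟩ := I.exists_at le_rfl hA1 hex
  by_cases he : A₁ = A
  · rw [← he]
    exact Q.br_le_of_eq j hT hJ he
  -- `|[M, A]| = s`, `[M, A]` is `J`-invariant
  have h2 := Q.br_eq hT hex he
  have h3 : Nat.card (br A : Subgroup M) ≤ Nat.card lam := (Subgroup.card_le_of_le h2).trans (Q.card_br hT hex he).le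
  have hAU : (br A : Subgroup M) ≤ U := br_le fun a ha m => (I.hA a ha).2 m
  have hbJ : ∀ k ∈ J, ∀ r ∈ (br A : Subgroup M), k • r ∈ (br A : Subgroup M) := by
    intro k hk r hr
    have h4 : k • (br A : Subgroup M) ≤ br A := by
      rw [← br_cj]
      refine br_mono fun x hx => ?_
      rw [mem_cj] at hx
      have h5 := hJ k hk _ hx
      have h6 : k * (k⁻¹ * x * k) * k⁻¹ = x := by group
      rwa [h6] at h5
    exact h4 (smul_mem_pointwise_smul _ _ _ hr)
  intro r hr
  by_contra hrl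
  have h4 : lam ≤ br A := by
    intro z hz
    obtain ⟨k, hk, hkr⟩ := j.on r (hAU hr) hrl z hz
    have h5 := mul_mem hr (hbJ k hk r hr)
    rwa [hkr, aa I.F.sq] at h5
  have h5 : lam = br A := eq_of_le_of_card_ge h4 h3
  exact hrl (h5 ▸ hr)

omit I [Finite H] [Finite M] in
/-- the elements of `C_H(U) ∩ C_H(M/U)` with `[M, b] ≤ E` centralising the `U_v`, `v ∈ E` a line vector -/
theorem exists_ce (sq : ∀ m : M, m * m = 1) (lam U E : Subgroup M) : ∃ K : Subgroup H, ∀ b : H, b ∈ K ↔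
    b ∈ bx H sq U E ∧ ∀ v ∈ E, v ≠ 1 → ∀ g : H, v ∈ g • lam → ∀ u ∈ g • U, b • u = u :=
  ⟨{ carrier := {b | b ∈ bx H sq U E ∧ ∀ v ∈ E, v ≠ 1 → ∀ g : H, v ∈ g • lam → ∀ u ∈ g • U, b • u = u}
     one_mem' := ⟨one_mem _, fun _ _ _ _ _ _ _ => one_smul _ _⟩
     mul_mem' := by
      rintro a b ⟨h1, h2⟩ ⟨h3, h4⟩
      exact ⟨mul_mem h1 h3, fun v hv hv1 g hg u hu => by
        rw [mul_smul, h4 v hv hv1 g hg u hu, h2 v hv hv1 g hg u hu]⟩
     inv_mem' := by
      rintro a ⟨h1, h2⟩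
      exact ⟨Subgroup.inv_mem _ h1, fun v hv hv1 g hg u hu => by
        rw [inv_smul_eq_iff, h2 v hv hv1 g hg u hu]⟩ }, fun _ => Iff.rfl⟩

/-- **THEOREM INN_s** -/
theorem br_le_lam (j : JJ J lam U) (hT : Fatt lam U A) (hex : fo M A = Nat.card M) : br A ≤ lam := by
  set E : Subgroup M := br A ⊔ lam with hE
  obtain ⟨K, hK⟩ := exists_ce (H := H) I.F.sq lam U E
  have hEU : E ≤ U := sup_le (br_le fun a ha m => (I.hA a ha).2 m) I.F.le
  have hAK : A ≤ K := fun a ha => (hK a).2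
    ⟨⟨I.hA a ha, fun m => mem_sup_left (mem_br ha m)⟩, fun v hv hv1 g hg u hu => I.cen v hv hv1 g hg a ha u hu⟩
  have hEJ : ∀ k ∈ J, ∀ v ∈ E, k • v ∈ E := by
    intro k hk v hv
    have h1 : k • v = (k • v * v) * v := by rw [mul_assoc, I.F.sq, mul_one]
    rw [h1]
    exact mul_mem (mem_sup_right (j.cl k hk v (hEU hv))) hv
  have hKbb : ∀ b ∈ K, IsBB U b := fun b hb => ((hK b).1 hb).1.1
  have hKJ : ∀ k ∈ J, ∀ b ∈ K, k * b * k⁻¹ ∈ K := by
    intro k hk b hb
    obtain ⟨⟨h1, h2⟩, h3⟩ := (hK b).1 hb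
    have hkU : k • U = U := I.F.semi_U (j.semi hk)
    refine (hK _).2 ⟨⟨?_, fun m => ?_⟩, fun v hv hv1 g hg u hu => ?_⟩
    · have h4 := isBB_conj k h1
      rwa [hkU] at h4
    · have h4 : (k * b * k⁻¹) • m * m = k • (b • k⁻¹ • m * k⁻¹ • m) := by
        rw [smul_mul', smul_inv_smul, mul_smul, mul_smul]
      rw [h4]
      exact hEJ k hk _ (h2 _)
    · rw [mul_smul, mul_smul, h3 (k⁻¹ • v) (hEJ _ (J.inv_mem hk) v hv) ?_ (k⁻¹ * g) ?_ (k⁻¹ • u) ?_, smul_inv_smul]
      · intro hc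
        apply hv1
        rw [inv_smul_eq_iff, smul_one] at hc
        exact hc
      · rw [mul_smul]
        exact smul_mem_pointwise_smul _ _ _ hg
      · rw [mul_smul]
        exact smul_mem_pointwise_smul _ _ _ hu
  -- the largest exact subgroup of `K`
  obtain ⟨B, ⟨hBK, hBex⟩, hBmax⟩ := Set.exists_max_image
    {X : Subgroup H | X ≤ K ∧ fo M X = Nat.card M} (fun X => Nat.card X) (Set.toFinite _) ⟨A, hAK, hex⟩
  have hjoin : ∀ X ≤ K, fo M X = Nat.card M → X ≤ B := by
    intro X hX hXex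
    have h1 := fo_mul_le (M := M) (I.F.le_norm (fun x hx => hKbb x (hX hx)) fun x hx => hKbb x (hBK hx))
    have h2 : fo M (X ⊔ B) ≤ Nat.card M := I.F.no _ fun x hx => hKbb x (sup_le hX hBK hx)
    have h3 : fo M (X ⊓ B) ≤ Nat.card M := I.F.no _ fun x hx => hKbb x (hX hx.1)
    rw [hXex, hBex] at h1
    have h4 : fo M (X ⊔ B) = Nat.card M := by
      apply le_antisymm h2
      have h5 : Nat.card M * Nat.card M ≤ fo M (X ⊔ B) * Nat.card M := h1.trans (Nat.mul_le_mul_left _ h3)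
      exact Nat.le_of_mul_le_mul_right h5 Nat.card_pos
    have h5 := hBmax (X ⊔ B) ⟨sup_le hX hBK, h4⟩
    have h6 : B = X ⊔ B := eq_of_le_of_card_ge le_sup_right h5
    rw [h6]
    exact le_sup_left
  have hBE : (br B : Subgroup M) ≤ E := br_le fun b hb m => ((hK b).1 (hBK hb)).1.2 m
  have IB : Inn H lam U B := by
    refine ⟨I.F, I.sym, I.bs, fun b hb => hKbb b (hBK hb), fun v hv hv1 g hg b hb u hu => ?_⟩
    exact ((hK b).1 (hBK hb)).2 v (sup_le hBE le_sup_right hv) hv1 g hg u hu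
  have hTB : FattS lam U B := by
    intro g hgU v hv hv1 hg
    have hvE := sup_le hBE le_sup_right hv
    obtain ⟨r, hr, l, hl, rfl⟩ := (mem_sup' I.F.sq).1 hvE
    by_cases hrl : r ∈ lam
    · apply I.F.ti
      exact ne_bot_iff'.2 ⟨_, ⟨hg, mul_mem hrl hl⟩, hv1⟩
    · obtain ⟨k, hk, hkr⟩ := j.on r (hEU (mem_sup_left hr)) hrl l hl
      have h1 : r ∈ (k⁻¹ * g) • lam := by
        rw [mul_smul, mem_pointwise_smul_iff_inv_smul_mem, inv_inv, hkr]
        exact hg
      have h2 : (k⁻¹ * g) • U = U := by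
        rw [mul_smul, hgU, inv_smul_eq_iff, I.F.semi_U (j.semi hk)]
      have h3 := hT _ h2 r hr (fun hc => hrl (hc ▸ one_mem _)) h1
      exact absurd (h3 ▸ h1) hrl
  have hBJ : ∀ k ∈ J, ∀ b ∈ B, k * b * k⁻¹ ∈ B := by
    intro k hk b hb
    have h1 : cj k B ≤ B := by
      refine hjoin _ ?_ ?_
      · intro x hx
        rw [mem_cj] at hx
        have h2 := hKJ k hk _ (hBK hx)
        have h3 : k * (k⁻¹ * x * k) * k⁻¹ = x := by group
        rwa [h3] at h2
      · exact (Star.map_fo k B).trans hBex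
    apply h1
    rw [mem_cj]
    have : k⁻¹ * (k * b * k⁻¹) * k = b := by group
    rw [this]
    exact hb
  exact (br_mono (hjoin A hAK hex)).trans (IB.br_le_of_inv j hTB hBex hBJ)

end Inn

end Cfsg.Agent.Omega.NO3S.OneS

end

section


/-!
# THEOREM INN_s (OMEGA, NO-3S MidQ, `s ≥ 4`; helper49): line vectors of `[M, A]`; K-free, no torus, no field

`Inn.flag_eq` : `A ≠ 1` exact and inner, `1 ≠ w ∈ [M, A] ∩ g • lam` ⟹ `g • U = U`.  (No (T), no `J`.)
`Fr.smul`, `TorAct.smul`, `CenAct.smul`, `Inn.smul` : the frame at the flag `(g • lam, g • U)`.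
-/

set_option autoImplicit false
set_option maxHeartbeats 400000

namespace Cfsg.Agent.Omega.NO3S.OneS

open Subgroup Cfsg.Agent.ClassTwoFusion.Quad Cfsg.Agent.Omega.NOThree.NoOver
open scoped Pointwise

variable {H : Type*} [Group H] {M : Type*} [Group M] [MulDistribMulAction H M]

theorem isBB_conj' {U : Subgroup M} {b g : H} (h : IsBB (g • U) b) : IsBB U (g⁻¹ * b * g) := by
  have h1 := isBB_conj g⁻¹ h
  rwa [inv_smul_smul, inv_inv] at h1

theorem Fr.smul {lam U : Subgroup M} (F : Fr H lam U) (g : H) : Fr H (g • lam) (g • U) where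
  sq := F.sq
  faith := F.faith
  le := smul_mono_right g F.le
  stab k hk := by
    have h1 : (k * g) • lam = g • lam := by rw [mul_smul, hk]
    have h2 := F.stab' h1
    rwa [mul_smul] at h2
  ti k hk := by
    have h1 : (k * g) • lam ⊓ g • lam ≠ ⊥ := by rwa [mul_smul]
    have h2 := F.ti' h1
    rwa [mul_smul] at h2
  coll k hk hk' v hv hv1 := by
    obtain ⟨x, ⟨hx, hx'⟩, hx1⟩ := ne_bot_iff'.1 hk'
    have h1 : (k * g) • lam ≠ g • lam := by rwa [mul_smul]
    rw [← mul_smul] at hx hv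
    obtain ⟨-, l, hl⟩ := F.coll' h1 hx hx' hx1 hv hv1
    refine ⟨hv1, l * g⁻¹, ?_⟩
    rwa [mul_smul, inv_smul_smul]
  two b hb k hk v hv := by
    have h1 : (g⁻¹ * b * g) • (g⁻¹ * k * g) • lam = (g⁻¹ * k * g) • lam := by
      rw [← mul_smul]
      have h2 : g⁻¹ * b * g * (g⁻¹ * k * g) = g⁻¹ * (b * (k * g)) := by group
      rw [h2, mul_smul, mul_smul, mul_smul, hk, ← mul_smul, ← mul_smul, mul_assoc]
    have h3 := F.two _ (isBB_conj' hb) _ h1 (g⁻¹ • v) (by
      have h4 : g⁻¹ * k * g = g⁻¹ * (k * g) := by group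
      rw [h4, mul_smul, mul_smul]
      exact smul_mem_pointwise_smul _ _ _ hv)
    rw [mul_smul, mul_smul, smul_inv_smul] at h3
    exact smul_left_cancel _ h3
  no X hX := by
    have h1 : fo M (cj g⁻¹ X) = fo M X := Star.map_fo g⁻¹ X
    rw [← h1]
    refine F.no _ fun x hx => ?_
    rw [mem_cj, inv_inv] at hx
    have h2 := isBB_conj' (hX _ hx)
    have h3 : g⁻¹ * (g * x * g⁻¹) * g = x := by group
    rwa [h3] at h2
  four := by rw [card_smul_eq]; exact F.four

theorem TorAct.smul {lam U : Subgroup M} (T : TorAct H lam U) (g : H) : TorAct H (g • lam) (g • U) where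
  tor z hz hz1 z' hz' hz'1 := by
    rw [mem_pointwise_smul_iff_inv_smul_mem] at hz hz'
    have h1 : ∀ {m : M}, m ≠ 1 → g⁻¹ • m ≠ 1 := fun hm hc => hm (by rwa [inv_smul_eq_iff, smul_one] at hc)
    obtain ⟨t, h2, h3, h4⟩ := T.tor _ hz (h1 hz1) _ hz' (h1 hz'1)
    refine ⟨g * t * g⁻¹, ?_, fun u hu => ?_, ?_⟩
    · rw [mul_smul, mul_smul, inv_smul_smul, h2]
    · rw [mem_pointwise_smul_iff_inv_smul_mem] at hu
      have h5 : (g * t * g⁻¹) • u * u = g • (t • g⁻¹ • u * g⁻¹ • u) := by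
        rw [smul_mul', smul_inv_smul, mul_smul, mul_smul]
      rw [h5]
      exact smul_mem_pointwise_smul _ _ _ (h3 _ hu)
    · rw [mul_smul, mul_smul, h4, smul_inv_smul]
  act u hu hu' := by
    rw [mem_pointwise_smul_iff_inv_smul_mem] at hu hu'
    obtain ⟨k, h1, h2, h3⟩ := T.act _ hu hu'
    refine ⟨g * k * g⁻¹, fun z hz => ?_, fun w hw => ?_, fun hc => h3 ?_⟩
    · rw [mem_pointwise_smul_iff_inv_smul_mem] at hz
      rw [mul_smul, mul_smul, h1 _ hz, smul_inv_smul]
    · rw [mem_pointwise_smul_iff_inv_smul_mem] at hw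
      have h5 : (g * k * g⁻¹) • w * w = g • (k • g⁻¹ • w * g⁻¹ • w) := by
        rw [smul_mul', smul_inv_smul, mul_smul, mul_smul]
      rw [h5]
      exact smul_mem_pointwise_smul _ _ _ (h2 _ hw)
    · rw [mul_smul, mul_smul] at hc
      rw [eq_inv_smul_iff, hc]

theorem CenAct.smul {lam U : Subgroup M} (T : CenAct H lam U) (g : H) : CenAct H (g • lam) (g • U) where
  cen z hz hz1 z' hz' := by
    rw [mem_pointwise_smul_iff_inv_smul_mem] at hz hz'
    have h1 : g⁻¹ • z ≠ 1 := fun hc => hz1 (by rwa [inv_smul_eq_iff, smul_one] at hc)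
    obtain ⟨θ, h2, h3, h4⟩ := T.cen _ hz h1 _ hz'
    refine ⟨θ, h2, fun u hu => ?_, ?_⟩
    · rw [mem_pointwise_smul_iff_inv_smul_mem] at hu ⊢
      rw [← h2]
      exact h3 _ hu
    · rw [h2] at h4
      exact smul_left_cancel _ h4
  act u hu hu' z hz := by
    rw [mem_pointwise_smul_iff_inv_smul_mem] at hu hu' hz
    obtain ⟨k, h1, h2, h3⟩ := T.act _ hu hu' _ hz
    refine ⟨g * k * g⁻¹, fun z hz => ?_, fun w hw => ?_, ?_⟩
    · rw [mem_pointwise_smul_iff_inv_smul_mem] at hz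
      rw [mul_smul, mul_smul, h1 _ hz, smul_inv_smul]
    · rw [mem_pointwise_smul_iff_inv_smul_mem] at hw
      have h5 : (g * k * g⁻¹) • w * w = g • (k • g⁻¹ • w * g⁻¹ • w) := by
        rw [smul_mul', smul_inv_smul, mul_smul, mul_smul]
      rw [h5]
      exact smul_mem_pointwise_smul _ _ _ (h2 _ hw)
    · rw [mul_smul, mul_smul, h3, smul_mul', smul_inv_smul, smul_inv_smul]

namespace Inn

variable {lam U : Subgroup M} {A : Subgroup H} (I : Inn H lam U A)
include I

/-- the frame at another flag -/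
theorem smul (g : H) {A' : Subgroup H} (hA' : ∀ a ∈ A', IsBB (g • U) a)
    (cen' : ∀ v ∈ br A' ⊔ g • lam, v ≠ 1 → ∀ k : H, v ∈ k • lam → ∀ a ∈ A', ∀ u ∈ k • U, a • u = u) :
    Inn H (g • lam) (g • U) A' where
  F := I.F.smul g
  sym k hk hk' := by
    obtain ⟨x, ⟨hx, hx'⟩, hx1⟩ := ne_bot_iff'.1 hk'
    have h1 : (k * g) • lam ≠ g • lam := by rwa [mul_smul]
    rw [← mul_smul] at hx
    have h2 := I.sym' h1 hx hx' hx1
    rwa [mul_smul] at h2
  bs := I.bs
  hA := hA'
  cen v hv hv1 k hk a ha u hu := by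
    rw [← mul_smul] at hk hu
    exact cen' v hv hv1 _ hk a ha u hu

/-- **a line vector of `[M, A]` is fat** -/
theorem flag_eq [Finite H] [Finite M] (hA : A ≠ ⊥) (hex : fo M A = Nat.card M) {g : H} {w : M}
    (hw : w ∈ br A) (hw1 : w ≠ 1) (hwg : w ∈ g • lam) : g • U = U := by
  obtain ⟨A₁, h1, f, h, Q⟩ := I.exists_at le_rfl hA hex
  obtain ⟨z, hz, hz1⟩ := Q.S.exists_mu
  have hwU : w ∈ U := (br_le fun a ha m => (I.hA a ha).2 m : (br A : Subgroup M) ≤ U) hw
  obtain ⟨s, hs, d₁, hd₁, e⟩ := Q.S.r1 hz hz1 hwU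
  have hs1 : s ≠ 1 := by
    rintro rfl
    rw [one_smul, I.F.sq, one_mul] at e
    exact Q.wdX le_rfl w (e ▸ hd₁) hw ⟨hw1, g, hwg⟩
  obtain ⟨b, hb, d, hd, e1, e2, e3, e4⟩ := Q.fat hs hs1 hz hz1
  set κ := (s • z * z) * d with hκ
  have hκL : κ ∈ ((b * s) * h) • lam := by
    rw [← e1, mul_smul (b * s) h]
    exact smul_mem_pointwise_smul _ _ _ hz
  have hkU : ((b * s) * h) • U = U := by rw [mul_smul, e2]
  by_cases hgk : g • lam = ((b * s) * h) • lam
  · rw [I.F.stab' hgk, hkU]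
  exfalso
  have hwκ : w * κ = d₁ * d := by
    rw [hκ, e, mul_assoc (s • z * z) d₁, ml I.F.sq d₁ (s • z * z) d, aa I.F.sq]
  have hD : w * κ ∈ U ⊓ h • U := by
    rw [hwκ]
    exact mul_mem hd₁ hd
  have hb' : w * κ ∈ br A ⊔ lam := mul_mem (mem_sup_left hw) (sup_le_sup_right (br_mono h1) lam e3)
  by_cases h5 : w * κ = 1
  · apply hgk
    apply I.F.ti'
    refine ne_bot_iff'.2 ⟨w, ⟨hwg, ?_⟩, hw1⟩
    rw [eqm I.F.sq h5]
    exact hκL
  · have hwU' : w ∈ ((b * s) * h) • U := by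
      rw [hkU]
      exact hwU
    exact Q.wd' _ hD hb' (I.F.coll' hgk hwg hwU' hw1 (mul_mem (mem_sup_left hwg) (mem_sup_right hκL)) h5)

end Inn

end Cfsg.Agent.Omega.NO3S.OneS

end
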