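import Cfsg.Agent.Mrg.Omega.NO3S.TwoFar.Inst
import Cfsg.Agent.Mrg.Omega.NOThree.TF.Blk
import Cfsg.Agent.Mrg.Omega.NOThree.TF.ULam
import Cfsg.Agent.Mrg.Omega.NOThree.TF.Trans
import Cfsg.Agent.Mrg.Omega.ML.MinIrr

section


/-!
# THEOREM LL (helper975 #18157), section 1: movers, (D) in goal pairs

`St` : the setting, a goal pair `(y 0, y (m+3))` with its geodesic, (NO), the module `M = W_p/p`, `p = y 0`.

* `St.redM` : `O₂(C(p)/K_p) = 1`; `St.moves`, `St.exists_mover` : every `f ∈ W_q`, `f ∉ C(W_p)`, has a mover;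
* `St.one_one` (1.1): a mover without (D): `[x, f] ∈ {y 1, y 0 * y 1}` and `[μ, C_λ] ≤ ⟨λ⟩ + N`.
-/

set_option autoImplicit false
set_option linter.unusedSectionVars false

namespace Cfsg.Agent.Omega.NOThree.LL

open Subgroup Cfsg Cfsg.Agent.ZN Cfsg.Agent.MinSimple.Geo Cfsg.Agent.Omega.CaseL Cfsg.Agent.Omega.NO3S.TwoOne
open Cfsg.Agent.Omega.NO3S.Pt
open Cfsg.Agent.Omega.NO3S.Dual (nn mem_nn DW)
open Cfsg.Agent.Omega.NO3S.TwoMid (rr comm_mem_rr rr_comm)
open Cfsg.Agent.Omega.NOThree.TF (Md conj_mem_ws_of_mem exists_T exists_flag2)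
open Cfsg.Agent.Omega.NOThree.SecOne (Exact ee mem_ee)
open Cfsg.Agent.ZN.Block (conj_mem_of_normalizer conj_mem_of_normalizer' le_normalizer_of_forall
  mem_normalizer_of)

universe u v

/-! ### more on `Inv` -/

namespace Inv

variable {H : Type u} [Group H] {M : Type v} [AddCommGroup M] [DistribMulAction H M] {f h : H}

/-- a subgroup of `M` invariant under `f` and `h f h⁻¹` is invariant under `h` -/
theorem pres (i : Inv M f h) (hf2 : ∀ m : M, f • f • m = m) {D : AddSubgroup M} (h1 : ∀ m ∈ D, f • m ∈ D)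
    (h2 : ∀ m ∈ D, h • f • h⁻¹ • m ∈ D) : (∀ m ∈ D, h • m ∈ D) ∧ ∀ m ∈ D, h⁻¹ • m ∈ D := by
  have h3 : ∀ m ∈ D, h • h • m ∈ D := by
    intro m hm
    have := h2 _ (h1 m hm)
    rw [i.conj_smul', hf2] at this
    exact this
  obtain ⟨k, ⟨j, rfl⟩, hk⟩ := i.odd
  have h4 : ∀ j : ℕ, ∀ m ∈ D, (h ^ (2 * j)) • m ∈ D := by
    intro j
    induction j with
    | zero => intro m hm; simpa using hm
    | succ j ih =>
      intro m hm
      have e : h ^ (2 * (j + 1)) = h * h * h ^ (2 * j) := by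
        rw [Nat.mul_succ, add_comm, pow_add, pow_two]
      rw [e, mul_smul, mul_smul]
      exact h3 _ (ih m hm)
  refine ⟨fun m hm => ?_, fun m hm => ?_⟩
  · have e : h • m = h • h • (h ^ (2 * j)) • m := by
      conv_lhs => rw [← hk m, pow_succ', mul_smul]
    rw [e]
    exact h3 _ (h4 j m hm)
  · have e : h⁻¹ • m = (h ^ (2 * j)) • m := by
      conv_lhs => rw [← hk m, pow_succ', mul_smul, inv_smul_smul]
    rw [e]
    exact h4 j m hm

/-- `h⁻²` is not a 2-element on `M` -/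
theorem not_two (i : Inv M f h) {d : H} (hd : ∀ m : M, d • m = h⁻¹ • h⁻¹ • m) {j : ℕ}
    (hj : ∀ m : M, (d ^ 2 ^ j) • m = m) : False := by
  set K := kerM H M with hK
  set π := QuotientGroup.mk' K with hπ
  have hπ1 : ∀ y : H, π y = 1 ↔ ∀ m : M, y • m = m := fun y => QuotientGroup.eq_one_iff (N := K) y
  have e1 : π d = (π h)⁻¹ * (π h)⁻¹ := by
    have h1 : π (d * h * h) = 1 := (hπ1 _).2 fun m => by
      rw [mul_smul, mul_smul, hd, inv_smul_smul, inv_smul_smul]
    rw [map_mul, map_mul] at h1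
    calc π d = (π d * π h * π h) * ((π h)⁻¹ * (π h)⁻¹) := by group
      _ = _ := by rw [h1, one_mul]
  have e2 : (π h) ^ (2 ^ (j + 1)) = 1 := by
    have h1 := (hπ1 _).2 hj
    rw [map_pow, e1, ← mul_inv_rev, ← pow_two, inv_pow, inv_eq_one, ← pow_mul] at h1
    rw [pow_succ', h1]
  obtain ⟨k, hko, hk⟩ := i.odd
  have e3 : (π h) ^ k = 1 := by
    rw [← map_pow]
    exact (hπ1 _).2 hk
  have e4 : orderOf (π h) ∣ 1 := by
    have h5 := Nat.dvd_gcd (orderOf_dvd_of_pow_eq_one e2) (orderOf_dvd_of_pow_eq_one e3)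
    have h6 : Nat.gcd (2 ^ (j + 1)) k = 1 := Nat.Coprime.pow_left _ (Nat.coprime_two_left.2 hko)
    rwa [h6] at h5
  have e5 : π h = 1 := orderOf_eq_one_iff.1 (Nat.dvd_one.1 e4)
  obtain ⟨m, hm⟩ := i.ne
  exact hm ((hπ1 h).1 e5 m)

end Inv

variable {G : Type u} [Group G] {M : Type v} [AddCommGroup M]

/-! ### the image of `N_p` -/

theorem nn_conj {V : Subgroup G} {p g a : G} (hg : g ∈ centralizer ({p} : Set G))
    (ha : a ∈ nn (ws V p) (kq V p)) : g * a * g⁻¹ ∈ nn (ws V p) (kq V p) := by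
  have h1 : centralizer ({p} : Set G) ≤ normalizer ((nn (ws V p) (kq V p) : Subgroup G) : Set G) := by
    refine le_trans (le_inf (centralizer_le_normalizer_ws V p)
      ((centralizer_le_normalizer_kq V p).trans (normalizer_le_normalizer_centralizer _))) ?_
    intro x hx
    refine mem_normalizer_iff.mpr fun y => ?_
    unfold nn
    rw [mem_inf, mem_inf, ← mem_normalizer_iff.mp hx.1 y, ← mem_normalizer_iff.mp hx.2 y]
  exact conj_mem_of_normalizer h1 hg ha

/-- the image of `N_p` in `M_p` -/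
def NB (V : Subgroup G) (p : G) (π : G → M) : AddSubgroup M :=
  AddSubgroup.closure (π '' (nn (ws V p) (kq V p) : Set G))

section md

variable {T V : Subgroup G} {z p x g : G} [DistribMulAction (centralizer ({p} : Set G)) M] {π : G → M}

theorem mem_NB (h : Fr T V z) (hp : Col V p p) (md : Md V p π) {m : M} :
    m ∈ NB V p π ↔ ∃ a ∈ nn (ws V p) (kq V p), π a = m := by
  constructor
  · intro hm
    induction hm using AddSubgroup.closure_induction with
    | mem x hx => exact hx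
    | zero => exact ⟨1, one_mem _, md.map_one⟩
    | add x y _ _ hx hy =>
      obtain ⟨a, ha, rfl⟩ := hx
      obtain ⟨b, hb, rfl⟩ := hy
      exact ⟨a * b, mul_mem ha hb, md.map_mul a ha.1 b hb.1⟩
    | neg x _ hx => rw [md.neg_eq h hp]; exact hx
  · rintro ⟨a, ha, rfl⟩
    exact AddSubgroup.subset_closure ⟨a, ha, rfl⟩

theorem smul_mem_NB (h : Fr T V z) (hp : Col V p p) (md : Md V p π) (c : centralizer ({p} : Set G)) {m : M}
    (hm : m ∈ NB V p π) : c • m ∈ NB V p π := by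
  obtain ⟨a, ha, rfl⟩ := (mem_NB h hp md).1 hm
  rw [← md.smul c a ha.1]
  exact (mem_NB h hp md).2 ⟨_, nn_conj c.2 ha, rfl⟩

/-- `{a ∈ W_p | π a ∈ D}` -/
def pre (md : Md V p π) (D : AddSubgroup M) : Subgroup G where
  carrier := {a | a ∈ ws V p ∧ π a ∈ D}
  one_mem' := ⟨one_mem _, by rw [md.map_one]; exact zero_mem _⟩
  mul_mem' := by
    rintro a b ⟨ha, h1⟩ ⟨hb, h2⟩
    exact ⟨mul_mem ha hb, by rw [md.map_mul a ha b hb]; exact add_mem h1 h2⟩
  inv_mem' := by
    rintro a ⟨ha, h1⟩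
    refine ⟨inv_mem ha, ?_⟩
    have h2 := md.map_mul a ha a⁻¹ (inv_mem ha)
    rw [mul_inv_cancel, md.map_one] at h2
    rw [eq_neg_of_add_eq_zero_right h2.symm]
    exact neg_mem h1

theorem mem_pre (md : Md V p π) {D : AddSubgroup M} {a : G} : a ∈ pre md D ↔ a ∈ ws V p ∧ π a ∈ D := Iff.rfl

/-- `U ∩ N = 0` -/
theorem inf_NB [Finite G] (h : Fr T V z) (md : Md V p π) (hp : p ∈ cj g V) (hp1 : p ≠ 1)
    {U : AddSubgroup M} (hU : ∀ m, m ∈ U ↔ ∃ a ∈ ii (cj g V), π a = m) {m : M}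
    (hm : m ∈ U) (hn : m ∈ NB V p π) : m = 0 := by
  have hpc : Col V p p := Col.of_mem hp hp hp1 hp1
  obtain ⟨a, ha, rfl⟩ := (mem_NB h hpc md).1 hn
  rw [TF.Md.π_mem_U h md hp hp1 hU ha.1] at hm
  rw [mem_nn] at ha
  have key : ∀ k ∈ kq V p, k * a * k⁻¹ ≠ p * a := by
    intro k hk e
    rw [NO3S.Dual.conj_eq_of_comm (ha.2 k hk)] at e
    exact hp1 (by simpa using e.symm)
  by_cases haV : a ∈ cj g V
  · obtain ⟨k, hk, -, hkm⟩ := h.mover_cj hp hp1
    rw [md.ker a ha.1]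
    by_contra hcon
    push Not at hcon
    exact key k hk (hkm a haV hcon.1 hcon.2)
  · obtain ⟨k, hk, -, hka⟩ := h.fu_cj hm haV hp hp1
    exact absurd hka (key k hk)

/-- `M` is spanned by the line vectors -/
theorem span_top [Finite G] (h : Fr T V z) (md : Md V p π) (hx : Col V p x) (hne : x ≠ p) (m : M) :
    m ∈ AddSubgroup.closure {v | ∃ c : centralizer ({p} : Set G), v = c • π x} := by
  set D := AddSubgroup.closure {v | ∃ c : centralizer ({p} : Set G), v = c • π x} with hD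
  have h1 : ws V p ≤ pre md D := by
    refine ws_le fun L hL a ha => ?_
    obtain ⟨⟨g, rfl⟩, hpL⟩ := hL
    have haw : a ∈ ws V p := h.line_le_ws hpL ha
    refine ⟨haw, ?_⟩
    by_cases h0 : a = 1 ∨ a = p
    · rw [(md.ker a haw).2 h0]
      exact zero_mem _
    · push Not at h0
      have hap : Col V p a := Col.of_mem hpL ha hx.ne_one h0.1
      obtain ⟨c, hc, hc'⟩ := exists_flag2 h hx hne hap h0.2
      have hcp : c ∈ centralizer ({p} : Set G) := by
        rw [mem_centralizer_singleton_iff]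
        exact NO3S.Dual.comm_of_conj_eq hc
      refine AddSubgroup.subset_closure ⟨⟨c, hcp⟩, ?_⟩
      rw [← md.smul ⟨c, hcp⟩ x (h.mem_ws_of_col hx), ← hc']
  obtain ⟨a, ha, rfl⟩ := md.surj m
  exact (h1 ha).2

/-- `O₂(C(p)/K_p) = 1` -/
theorem redM_md [Finite G] (h : Fr T V z) (md : Md V p π) (hx : Col V p x) (hne : x ≠ p) :
    RedM (centralizer ({p} : Set G)) M := by
  obtain ⟨T', hT', -, hT2, hT3, -, -⟩ := exists_T h hx hne
  refine redM_of (T := T'.subgroupOf (centralizer ({p} : Set G))) hT2 (lam := π x) (fun t ht => ?_)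
    (span_top h md hx hne)
  have hxw := h.mem_ws_of_col hx
  rw [← md.smul t x hxw, md.eq_iff h hx.left (conj_mem_ws_of_mem t.2 hxw) hxw]
  exact hT3 t (mem_subgroupOf.1 ht)

end md

/-- `W_q ≤ O₂(C(l))` for every line `l` on a point of distance `< n` -/
theorem ws_le_o2_line [Finite G] {T V : Subgroup G} {z : G} (h : Fr T V z) {n : ℕ} (hm : Mn V (n + 1))
    {q r g : G} (hp : Pth V n q r) (hr : r ∈ cj g V) :
    ws V q ≤ o2 (centralizer ((cj g V : Subgroup G) : Set G)) := by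
  have h1 := h.ws_le_o2_of_pth hm n (by omega) q r hp
  have h2 : ws V q ≤ centralizer ((cj g V : Subgroup G) : Set G) := by
    intro a ha
    rw [mem_centralizer_iff]
    intro b hb
    exact (hm n (by omega) q r hp a ha b (h.line_le_ws hr hb)).symm
  have h3 : centralizer ((cj g V : Subgroup G) : Set G) ≤ centralizer ({r} : Set G) := by
    intro c hc
    rw [mem_centralizer_singleton_iff]
    exact (mem_centralizer_iff.mp hc r hr).symm
  refine le_trans (le_inf h1 h2) (le_o2 inf_le_right ((isPGroup_o2 _).to_le inf_le_left) ?_)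
  refine le_normalizer_of_forall fun c hc a ha => ?_
  exact ⟨conj_mem_of_normalizer (le_normalizer_o2 _) (h3 hc) ha.1, conj_mem_cent hc ha.2⟩

/-! ### the setting -/

/-- the setting: a goal pair with its geodesic, (NO), the module `M = W_{y 0}/y 0` -/
structure St (T V : Subgroup G) (z : G) (m : ℕ) (y : ℕ → G) [DistribMulAction (centralizer ({y 0} : Set G)) M]
    (π : G → M) : Prop where
  fr : Fr T V z
  no : LemmaM.NoOver (NO3S.TwoFar.inc (V := V)) NO3S.TwoFar.RR NO3S.TwoFar.WS NO3S.TwoFar.VL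
  gg : GG V (m + 3) y
  md : Md V (y 0) π

namespace St

variable {T V : Subgroup G} {z : G} {m : ℕ} {y : ℕ → G} [DistribMulAction (centralizer ({y 0} : Set G)) M]
  {π : G → M} (s : St T V z m y π)
include s

theorem hp : Col V (y 0) (y 0) := s.gg.col0.left

theorem ne1 : y 1 ≠ y 0 := (s.gg.ne_succ (i := 0) (by omega)).symm

theorem wq_le [Finite G] : ws V (y (m + 3)) ≤ centralizer ({y 0} : Set G) := s.gg.cr.symm.cent s.fr

theorem com1 : Com V (y 1) (y (m + 3)) := s.gg.com (by omega) le_rfl (by omega) (by omega)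

theorem p1_mem : y 1 ∈ ws V (y 0) := s.fr.mem_ws_of_col s.gg.col0

theorem p1_mem' : y 1 ∈ ws V (y 1) := s.fr.mem_ws_self s.gg.col0.right

theorem p_mem : y 0 ∈ ws V (y 0) := s.fr.mem_ws_self s.hp

theorem fix_lam {f : centralizer ({y 0} : Set G)} (hf : (f : G) ∈ ws V (y (m + 3))) : f • π (y 1) = π (y 1) := by
  rw [← s.md.smul f _ s.p1_mem]
  congr 1
  exact NO3S.Dual.conj_eq_of_comm (s.com1 _ s.p1_mem' _ hf).symm

theorem two (m : M) : m + m = 0 := s.md.two s.fr s.hp m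

theorem sub_eq (m m' : M) : m - m' = m + m' := s.md.sub_eq s.fr s.hp m m'

theorem f_sq {f : centralizer ({y 0} : Set G)} (hf : (f : G) ∈ ws V (y (m + 3))) (v : M) : f • f • v = v := by
  have e : f * f = 1 := Subtype.ext (s.fr.ws_sq s.gg.cr.path.right _ hf)
  rw [← mul_smul, e, one_smul]

/-- `[W_q, W_p] ≤ ⟨p⟩` for one element -/
theorem moves_of_not_mem [Finite G] {f : centralizer ({y 0} : Set G)} (hf : (f : G) ∈ ws V (y (m + 3)))
    (hfc : (f : G) ∉ centralizer (ws V (y 0) : Set G)) : ∃ v : M, f • v ≠ v := by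
  by_contra hcon
  push Not at hcon
  apply hfc
  have h1 := (s.gg.exact s.fr s.no).kq _ hf ((s.md.mem_kq_iff s.fr s.hp f).2 hcon)
  rw [mem_centralizer_iff]
  exact fun a ha => ((mem_ee.1 h1).2 a ha).symm

/-- **`h` moves `λ`** -/
theorem moves [Finite G] {f h : centralizer ({y 0} : Set G)} (hf : (f : G) ∈ ws V (y (m + 3)))
    (i : Inv M f h) : h • π (y 1) ≠ π (y 1) := by
  intro e
  obtain ⟨k, hk, hkx⟩ := s.md.fix_lift s.fr s.gg.col0 s.ne1 e
  have hk1 : ∀ v : M, k • v = v := (s.md.mem_kq_iff s.fr s.hp k).1 hk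
  obtain ⟨g, hp, hx, hp1, hx1⟩ := s.gg.col0
  set c : centralizer ({y 0} : Set G) := k * h with hc
  have hcv : ∀ v : M, c • v = h • v := fun v => by rw [hc, mul_smul, hk1]
  have hcv' : ∀ v : M, c⁻¹ • v = h⁻¹ • v := fun v => by
    rw [inv_smul_eq_iff, hcv, smul_inv_smul]
  -- `c ∈ C(l)`
  have hcl : (c : G) ∈ centralizer ((cj g V : Subgroup G) : Set G) := by
    rw [mem_centralizer_iff]
    intro a ha
    have e0 : (c : G) * y 0 = y 0 * c := mem_centralizer_singleton_iff.1 c.2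
    have e1 : (c : G) * y 1 = y 1 * c := NO3S.Dual.comm_of_conj_eq hkx
    rcases TF.Md.four_cj s.fr hp hp1 hx hx1 s.ne1 ha with e | e | e | e
    · rw [e]; simp
    · rw [e, e0]
    · rw [e, e1]
    · rw [e]
      calc y 0 * y 1 * c = y 0 * (y 1 * c) := by group
        _ = (y 0 * c) * y 1 := by rw [← e1]; group
        _ = c * (y 0 * y 1) := by rw [← e0]; group
  -- `f ∈ O₂(C(l))`
  have h1 : (f : G) ∈ o2 (centralizer ((cj g V : Subgroup G) : Set G)) := by
    have hpth := (s.gg.pth (i := 1) (j := m + 3) (by omega) le_rfl (by omega)).symm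
    exact ws_le_o2_line s.fr s.gg.cr.min (n := m + 2) hpth hx hf
  set d : centralizer ({y 0} : Set G) := f * (c * f⁻¹ * c⁻¹) with hd
  have h2 : (d : G) ∈ o2 (centralizer ((cj g V : Subgroup G) : Set G)) :=
    mul_mem h1 (conj_mem_of_normalizer (le_normalizer_o2 _) hcl (inv_mem h1))
  obtain ⟨j, hj⟩ := isPGroup_o2 _ ⟨(d : G), h2⟩
  have hj' : d ^ 2 ^ j = 1 := by
    refine Subtype.ext ?_
    have := congrArg Subtype.val hj
    rw [SubgroupClass.coe_pow, OneMemClass.coe_one] at this ⊢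
    exact this
  refine i.not_two (d := d) (j := j) (fun v => ?_) (fun v => by rw [hj', one_smul])
  rw [hd, mul_smul, mul_smul, mul_smul, hcv, hcv']
  have h3 : f⁻¹ • h⁻¹ • v = h • f⁻¹ • v := by
    rw [inv_smul_eq_iff, i.conj_smul, smul_inv_smul]
  rw [h3, i.conj_smul, i.conj_smul, smul_inv_smul]

/-- **movers exist** -/
theorem exists_mover [Finite G] {f : centralizer ({y 0} : Set G)} (hf : (f : G) ∈ ws V (y (m + 3)))
    (hfc : (f : G) ∉ centralizer (ws V (y 0) : Set G)) :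
    ∃ h : centralizer ({y 0} : Set G), Inv M f h ∧ Mv V (m + 3) y ((h : G) * y 1 * (h : G)⁻¹) f := by
  obtain ⟨h, i⟩ := exists_inv (redM_md s.fr s.md s.gg.col0 s.ne1) (s.f_sq hf) (s.moves_of_not_mem hf hfc)
  have hp0 : (h : G) * y 0 * (h : G)⁻¹ = y 0 :=
    NO3S.Dual.conj_eq_of_comm (mem_centralizer_singleton_iff.1 h.2)
  set x := (h : G) * y 1 * (h : G)⁻¹ with hx
  have hcol : Col V (y 0) x := by
    have := s.gg.col0.conj (h : G)
    rwa [hp0] at this
  have hπ : π x = h • π (y 1) := s.md.smul h _ s.p1_mem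
  have hxw : x ∈ ws V (y 0) := s.fr.mem_ws_of_col hcol
  have hmv : ¬ (f : G) * x * (f : G)⁻¹ = x ∧ ¬ (f : G) * x * (f : G)⁻¹ = y 0 * x := by
    rw [← not_or, ← s.md.eq_iff s.fr s.hp (conj_mem_ws_of_mem f.2 hxw) hxw, s.md.smul f x hxw, hπ]
    intro e
    exact s.moves hf i (i.fix' (s.fix_lam hf) e)
  refine ⟨h, i, hf, hcol, ?_, hmv.1, hmv.2, ?_⟩
  · intro e
    apply s.ne1
    calc y 1 = (h : G)⁻¹ * ((h : G) * y 1 * (h : G)⁻¹) * h := by group
      _ = (h : G)⁻¹ * (h * y 0 * (h : G)⁻¹) * h := by rw [e, hp0]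
      _ = y 0 := by group
  · intro u hux hup hfu
    -- `h` fixes `π u`
    have h1 : f • π u = π u := by
      rw [← s.md.smul f u hup, NO3S.Dual.conj_eq_of_comm hfu]
    have hu' : (h : G)⁻¹ * u * h ∈ ws V (y 1) := by
      have := conj_mem_ws (h : G)⁻¹ hux
      have e : (h : G)⁻¹ * x * (h : G)⁻¹⁻¹ = y 1 := by rw [hx]; group
      rwa [e, inv_inv] at this
    have hu'' : (h : G)⁻¹ * u * h ∈ ws V (y 0) := by
      have := conj_mem_ws_of_mem (h⁻¹).2 hup
      simpa using this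
    have h2 : h⁻¹ • π u = π ((h : G)⁻¹ * u * h) := by
      rw [← s.md.smul h⁻¹ u hup]
      simp
    have h3 : h • f • h⁻¹ • π u = π u := by
      rw [h2, ← s.md.smul f _ hu'', NO3S.Dual.conj_eq_of_comm (s.com1 _ hu' _ hf).symm, ← s.md.smul h _ hu'']
      congr 1
      group
    have h4 := i.fix h1 h3
    have h5 : π ((h : G)⁻¹ * u * h) = π u := by
      rw [← h2, inv_smul_eq_iff, h4]
    rcases (s.md.eq_iff s.fr s.hp hu'' hup).1 h5 with e | e
    · rwa [e] at hu'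
    · have hp1' : y 0 ∈ ws V (y 1) := s.fr.mem_ws_of_col s.gg.col0.symm
      have e' : u = y 0 * ((h : G)⁻¹ * u * h) := by
        rw [e, ← mul_assoc, s.fr.pt_sq s.hp, one_mul]
      rw [e']
      exact mul_mem hp1' hu'

/-! ### (1.1) -/

omit s [DistribMulAction (centralizer ({y 0} : Set G)) M] in
theorem mem_sup4 {N : AddSubgroup M} (two : ∀ v : M, v + v = 0) {a b v : M}
    (hv : v ∈ AddSubgroup.closure {a, b} ⊔ N) :
    ∃ w ∈ N, v = w ∨ v = a + w ∨ v = b + w ∨ v = a + b + w := by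
  obtain ⟨c, hc, w, hw, rfl⟩ := AddSubgroup.mem_sup.1 hv
  refine ⟨w, hw, ?_⟩
  have key : ∀ (k : ℤ) (a : M), k • a = 0 ∨ k • a = a := by
    intro k a
    rcases Int.even_or_odd' k with ⟨j, rfl | rfl⟩
    · left
      rw [mul_comm, mul_smul, two_smul, two, smul_zero]
    · right
      rw [add_smul, mul_comm, mul_smul, two_smul, two, smul_zero, one_smul, zero_add]
  obtain ⟨k, l, rfl⟩ := AddSubgroup.mem_closure_pair.1 hc
  rcases key k a with e | e <;> rcases key l b with e' | e' <;> rw [e, e']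
  · left; rw [zero_add, zero_add]
  · right; right; left; rw [zero_add]
  · right; left; rw [add_zero]
  · right; right; right; rfl

omit s in
theorem cent_lift {x : G} {h g : centralizer ({y 0} : Set G)} (hx : x = (h : G) * y 1 * (h : G)⁻¹)
    (hg : (g : G) ∈ centralizer (ws V (y 1) : Set G)) :
    ((h * g * h⁻¹ : centralizer ({y 0} : Set G)) : G) ∈ centralizer (ws V x : Set G) := by
  rw [mem_centralizer_iff] at hg ⊢
  intro a ha
  have h1 : (h : G)⁻¹ * a * h ∈ ws V (y 1) := by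
    have := conj_mem_ws (h : G)⁻¹ ha
    have e : (h : G)⁻¹ * x * (h : G)⁻¹⁻¹ = y 1 := by rw [hx]; group
    rwa [e, inv_inv] at this
  have h2 := hg _ h1
  change a * ((h : G) * g * (h : G)⁻¹) = (h : G) * g * (h : G)⁻¹ * a
  calc a * ((h : G) * g * (h : G)⁻¹) = h * ((h : G)⁻¹ * a * h * g) * (h : G)⁻¹ := by group
    _ = (h : G) * g * (h : G)⁻¹ * a := by rw [h2]; group

/-- **(1.1)** -/
theorem one_one [Finite G] {f h : centralizer ({y 0} : Set G)} {x : G} (hf : (f : G) ∈ ws V (y (m + 3)))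
    (i : Inv M f h) (hx : x = (h : G) * y 1 * (h : G)⁻¹) (hmv : Mv V (m + 3) y x f) (hD : ¬ DD V (y 0) x f) :
    f • π x = π x + π (y 1) ∧ ∀ g : centralizer ({y 0} : Set G), (g : G) ∈ centralizer (ws V (y 1) : Set G) →
      g • π x - π x ∈ AddSubgroup.closure {π (y 1)} ⊔ NB V (y 0) π := by
  have two := s.two
  obtain ⟨l, hp, hq, hp1, hq1⟩ := s.gg.col0
  obtain ⟨U, hU⟩ := TF.Md.exists_U s.fr s.md hp hp1
  have hlU : π (y 1) ∈ U := TF.Md.lam_mem_U s.fr s.md hp hp1 hq hU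
  have hUN : ∀ v ∈ U, v ∈ NB V (y 0) π → v = 0 := fun v hv hn => inf_NB s.fr s.md hp hp1 hU hv hn
  have hNs : ∀ (c : centralizer ({y 0} : Set G)), ∀ v ∈ NB V (y 0) π, c • v ∈ NB V (y 0) π :=
    fun c v hv => smul_mem_NB s.fr s.hp s.md c hv
  have hl0 : π (y 1) ≠ 0 := s.md.pt_ne_zero s.fr s.gg.col0 s.ne1
  have hlN : π (y 1) ∉ NB V (y 0) π := fun h1 => hl0 (hUN _ hlU h1)
  have hxw : x ∈ ws V (y 0) := s.fr.mem_ws_of_col hmv.col
  have hmu : π x = h • π (y 1) := by rw [hx]; exact s.md.smul h _ s.p1_mem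
  set x' := (f : G) * x * (f : G)⁻¹ with hx'
  have hxw' : x' ∈ ws V (y 0) := conj_mem_ws_of_mem f.2 hxw
  have hnu : π x' = f • π x := s.md.smul f x hxw
  have hff : f • π x' = π x := by rw [hnu, s.f_sq hf]
  set mu := π x with hmudef
  set nu := π x' with hnudef
  set lam := π (y 1) with hlam
  have hne : nu ≠ mu := by
    intro e
    rcases (s.md.eq_iff s.fr s.hp hxw' hxw).1 e with e | e
    · exact hmv.mv e
    · exact hmv.mv' e
  have hfl : f • lam = lam := s.fix_lam hf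
  -- `c = mu + nu ∈ U`
  have hcU : mu + nu ∈ U := by
    have h1 : x' * x⁻¹ ∈ ws V (y 1) := by
      have h2 := s.gg.le x hxw f hf
      have e : x' * x⁻¹ = (x * f * x⁻¹ * (f : G)⁻¹)⁻¹ := by rw [hx']; group
      rw [e]
      exact inv_mem h2
    have hxi : x⁻¹ = x := inv_eq_of_mul_eq_one_right (s.fr.pt_sq hmv.col.right)
    rw [hxi] at h1
    have h2 : x' * x ∈ ws V (y 0) := mul_mem hxw' hxw
    rw [hU]
    refine ⟨x' * x, s.fr.mem_ii_cj hp hp1 hq hq1 s.ne1 h2 h1, ?_⟩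
    rw [s.md.map_mul _ hxw' _ hxw, add_comm]
  have hcN : mu + nu ∉ NB V (y 0) π := by
    intro h1
    have h2 := hUN _ hcU h1
    apply hne
    rw [← s.sub_eq, sub_eq_zero] at h2
    exact h2.symm
  have hnuN : nu ∉ NB V (y 0) π := by
    intro h1
    apply hlN
    have h2 := hNs h⁻¹ _ (hNs f _ h1)
    rwa [hff, hmu, inv_smul_smul] at h2
  -- (S)
  have hcolx' : Col V (y 0) x' := by
    have := hmv.col.conj (f : G)
    rwa [NO3S.Dual.conj_eq_of_comm (mem_centralizer_singleton_iff.1 f.2)] at this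
  have hx'p : x' ≠ y 0 := by
    intro e
    apply hmv.ne
    have e0 : (f : G)⁻¹ * y 0 * f = y 0 := by
      have := mem_centralizer_singleton_iff.1 f.2
      rw [mul_assoc, ← this, inv_mul_cancel_left]
    calc x = (f : G)⁻¹ * x' * f := by rw [hx']; group
      _ = y 0 := by rw [e, e0]
  have hS := (s.fr.lemD hmv.col hcolx' hmv.ne hx'p).resolve_left hD
  set P := AddSubgroup.closure {mu, nu} ⊔ NB V (y 0) π with hP
  have hmuP : mu ∈ P := (le_sup_left : _ ≤ P) (AddSubgroup.subset_closure (Or.inl rfl))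
  have hnuP : nu ∈ P := (le_sup_left : _ ≤ P) (AddSubgroup.subset_closure (Or.inr rfl))
  have hNP : NB V (y 0) π ≤ P := le_sup_right
  have hpre : closure {x, x'} ⊔ nn (ws V (y 0)) (kq V (y 0)) ≤ pre s.md P := by
    refine sup_le ?_ fun a ha => ⟨ha.1, hNP ((mem_NB s.fr s.hp s.md).2 ⟨a, ha, rfl⟩)⟩
    rw [closure_le]
    rintro a (rfl | rfl)
    · exact ⟨hxw, hmuP⟩
    · exact ⟨hxw', hnuP⟩
  have hgen : ∀ g : centralizer ({y 0} : Set G), (g • mu ∈ P) → (g • nu ∈ P) → ∀ v ∈ P, g • v ∈ P := by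
    intro g h1 h2
    have h3 : P ≤ P.comap (DistribSMul.toAddMonoidHom M g) := by
      rw [hP, sup_le_iff, AddSubgroup.closure_le]
      refine ⟨?_, fun v hv => hNP (hNs g v hv)⟩
      rintro v (rfl | rfl)
      · exact h1
      · exact h2
    exact fun v hv => h3 hv
  have hcx : ∀ g : centralizer ({y 0} : Set G), (g : G) ∈ centralizer (ws V x : Set G) →
      g • mu = mu ∧ g • nu ∈ P := by
    intro g hg
    have h1 := hS g ((le_sup_left : centralizer (ws V x : Set G) ≤ _) hg)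
    constructor
    · rw [hmudef, ← s.md.smul g x hxw]
      congr 1
      exact NO3S.Dual.conj_eq_of_comm (mem_centralizer_iff.1 hg x (s.fr.mem_ws_self hmv.col.right)).symm
    · have h2 := (hpre h1.2).2
      rw [s.md.smul g x' hxw'] at h2
      exact h2
  have h1 : ∀ v ∈ P, f • v ∈ P := hgen f (by rw [← hnu]; exact hnuP) (by rw [hff]; exact hmuP)
  have h2 : ∀ v ∈ P, h • f • h⁻¹ • v ∈ P := by
    intro v hv
    have hfc : (f : G) ∈ centralizer (ws V (y 1) : Set G) := by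
      rw [mem_centralizer_iff]
      exact fun a ha => s.com1 a ha _ hf
    obtain ⟨h3, h4⟩ := hcx _ (cent_lift hx hfc)
    have h5 := hgen (h * f * h⁻¹) (by rw [h3]; exact hmuP) h4 v hv
    rwa [mul_smul, mul_smul] at h5
  obtain ⟨h3, h4⟩ := i.pres (s.f_sq hf) h1 h2
  have hlP : lam ∈ P := by
    have := h4 _ hmuP
    rwa [hmu, inv_smul_smul] at this
  have hlam' : nu = mu + lam := by
    obtain ⟨w, hw, e | e | e | e⟩ := mem_sup4 two hlP
    · exact absurd (e ▸ hw) hlN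
    · exfalso
      apply hcN
      have e1 : f • lam = f • mu + f • w := by rw [e, smul_add]
      rw [hfl, ← hnu] at e1
      have e2 : mu + nu = w + f • w := by
        have e3 : mu = lam + w := by rw [e, add_assoc, two, add_zero]
        have e4 : nu = lam + f • w := by rw [e1, add_assoc, two, add_zero]
        rw [e3, e4]
        calc lam + w + (lam + f • w) = (lam + lam) + (w + f • w) := by abel
          _ = w + f • w := by rw [two, zero_add]
      rw [e2]
      exact add_mem hw (hNs f w hw)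
    · exfalso
      apply hcN
      have e1 : f • lam = f • nu + f • w := by rw [e, smul_add]
      rw [hfl, hff] at e1
      have e2 : mu + nu = f • w + w := by
        have e3 : nu = lam + w := by rw [e, add_assoc, two, add_zero]
        have e4 : mu = lam + f • w := by rw [e1, add_assoc, two, add_zero]
        rw [e3, e4]
        calc lam + f • w + (lam + w) = (lam + lam) + (f • w + w) := by abel
          _ = f • w + w := by rw [two, zero_add]
      rw [e2]
      exact add_mem (hNs f w hw) hw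
    · have e1 : w = lam + (mu + nu) := by
        rw [e]
        calc w = (mu + mu) + (nu + nu) + w := by rw [two, two, zero_add, zero_add]
          _ = mu + nu + w + (mu + nu) := by abel
      have e2 : w = 0 := hUN w (by rw [e1]; exact add_mem hlU hcU) hw
      rw [e2, add_zero] at e
      rw [e]
      calc nu = (mu + mu) + nu := by rw [two, zero_add]
        _ = mu + (mu + nu) := by abel
  refine ⟨by rw [← hnu]; exact hlam', ?_⟩
  -- `[nu, C(W_x)] ≤ ⟨mu⟩ + N`
  have h5 : ∀ g : centralizer ({y 0} : Set G), (g : G) ∈ centralizer (ws V x : Set G) →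
      ∃ w ∈ NB V (y 0) π, g • nu - nu = w ∨ g • nu - nu = mu + w := by
    intro g hg
    obtain ⟨h6, h7⟩ := hcx g hg
    obtain ⟨w, hw, e | e | e | e⟩ := mem_sup4 two h7
    · exfalso
      apply hnuN
      have := hNs g⁻¹ w hw
      rwa [← e, inv_smul_smul] at this
    · exfalso
      apply hcN
      have e1 : g • (mu + nu) = w := by
        rw [smul_add, h6, e, ← add_assoc, two, zero_add]
      have := hNs g⁻¹ w hw
      rwa [← e1, inv_smul_smul] at this
    · exact ⟨w, hw, Or.inl (by rw [e, add_sub_cancel_left])⟩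
    · refine ⟨w, hw, Or.inr ?_⟩
      rw [e]
      abel
  intro g hg
  set Q := AddSubgroup.closure {lam} ⊔ NB V (y 0) π with hQ
  have hlQ : lam ∈ Q := (le_sup_left : _ ≤ Q) (AddSubgroup.subset_closure rfl)
  have hNQ : NB V (y 0) π ≤ Q := le_sup_right
  have hgl : g • lam = lam := by
    rw [hlam, ← s.md.smul g _ s.p1_mem]
    congr 1
    exact NO3S.Dual.conj_eq_of_comm (mem_centralizer_iff.1 hg _ s.p1_mem').symm
  -- for `κ = h⁻¹ • nu`
  have h8 : g • h⁻¹ • nu - h⁻¹ • nu ∈ Q := by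
    obtain ⟨w, hw, e⟩ := h5 _ (cent_lift hx hg)
    have e1 : g • h⁻¹ • nu - h⁻¹ • nu = h⁻¹ • ((h * g * h⁻¹) • nu - nu) := by
      rw [smul_sub, mul_smul, mul_smul, inv_smul_smul]
    rw [e1]
    rcases e with e | e
    · rw [e]
      exact hNQ (hNs _ w hw)
    · rw [e, smul_add, hmu, inv_smul_smul]
      exact add_mem hlQ (hNQ (hNs _ w hw))
  have hgN : ∀ w ∈ NB V (y 0) π, g • w - w ∈ Q := fun w hw => sub_mem (hNQ (hNs g w hw)) (hNQ hw)
  obtain ⟨w, hw, e | e | e | e⟩ := mem_sup4 two (h4 _ hnuP)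
  · exfalso
    apply hnuN
    have := hNs h w hw
    rwa [← e, smul_inv_smul] at this
  · rw [e] at h8
    have e1 : g • mu - mu = (g • (mu + w) - (mu + w)) - (g • w - w) := by rw [smul_add]; abel
    rw [e1]
    exact sub_mem h8 (hgN w hw)
  · rw [e, hlam'] at h8
    have e1 : g • mu - mu = (g • (mu + lam + w) - (mu + lam + w)) - (g • w - w) := by
      rw [smul_add, smul_add, hgl]; abel
    rw [e1]
    exact sub_mem h8 (hgN w hw)
  · exfalso
    apply hcN
    have e1 : h⁻¹ • nu = lam + w := by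
      rw [e, hlam']
      calc mu + (mu + lam) + w = (mu + mu) + (lam + w) := by abel
        _ = lam + w := by rw [two, zero_add]
    have e2 : nu = mu + h • w := by
      rw [hmu, ← smul_add, ← e1, smul_inv_smul]
    have e3 : mu + nu = h • w := by rw [e2, ← add_assoc, two, zero_add]
    rw [e3]
    exact hNs h w hw

end St

end Cfsg.Agent.Omega.NOThree.LL

end

section


/-!
# (NO) for subgroups of `H_p` (THEOREM LL, #18157)

* `NoH H M U` : `|B : C_B(M)| |C_M(B)| ≤ |M|` for every subgroup `B` of `H` which centralises `U` and `M/U` (modulo the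
  kernel `B` is elementary abelian);
* `noH_of` : it holds for `H = C(p)`, `M = M_p`, `U = I_l/p`, by (ML) (`ML.Final.MLK`).
-/

set_option autoImplicit false
set_option linter.unusedSectionVars false

namespace Cfsg.Agent.Omega.NOThree.LL

open Subgroup Cfsg Cfsg.Agent.ZN Cfsg.Agent.MinSimple.Geo Cfsg.Agent.Omega.CaseL Cfsg.Agent.Omega.NO3S.TwoOne
open Cfsg.Agent.Omega.NO3S.Pt Cfsg.Agent.Omega.NOThree.TF
open Cfsg.Agent.Omega.ML.MinFrame (orb fxr orb_le smul_mem_orb_self)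

universe u v

/-- **(NO) for subgroups of `H`** -/
def NoH (H : Type u) [Group H] (M : Type v) [AddCommGroup M] [DistribMulAction H M] (U : AddSubgroup M) : Prop :=
  ∀ B : Subgroup H, (∀ b ∈ B, (∀ u ∈ U, b • u = u) ∧ ∀ m : M, b • m - m ∈ U) →
    (kerM H M).relIndex B * Nat.card (One.cv M B) ≤ Nat.card M

section

variable {H : Type u} [Group H] {M : Type v} [AddCommGroup M] [DistribMulAction H M]

/-- the action on `Multiplicative M` -/
abbrev mulAct : MulDistribMulAction H (Multiplicative M) where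
  smul h m := Multiplicative.ofAdd (h • Multiplicative.toAdd m)
  one_smul m := by
    change Multiplicative.ofAdd ((1 : H) • Multiplicative.toAdd m) = m
    rw [one_smul]
    rfl
  mul_smul a b m := by
    change Multiplicative.ofAdd ((a * b) • Multiplicative.toAdd m) =
      Multiplicative.ofAdd (a • b • Multiplicative.toAdd m)
    rw [mul_smul]
  smul_mul h a b := by
    change Multiplicative.ofAdd (h • (Multiplicative.toAdd a + Multiplicative.toAdd b)) =
      Multiplicative.ofAdd (h • Multiplicative.toAdd a + h • Multiplicative.toAdd b)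
    rw [smul_add]
  smul_one h := by
    change Multiplicative.ofAdd (h • (0 : M)) = 1
    rw [smul_zero]
    rfl

/-- **(ML) ⟹ (NO)** for a module `M = ⟨λ^H⟩`, `λ` fixed by a Sylow 2-subgroup, `U` normalised by `Stab(λ)`. -/
theorem noH_of_module [Finite H] [Finite M] (hML : ML.Final.MLK.{u, v}) (hK : IsKGroup H)
    (two : ∀ m : M, m + m = 0) {T : Subgroup H} (hT : IsPGroup 2 T) (hT2 : ¬ 2 ∣ T.index) {lam : M}
    (hlam : ∀ t ∈ T, t • lam = lam) (hspan : ∀ m : M, m ∈ AddSubgroup.closure {v | ∃ g : H, v = g • lam})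
    {U : AddSubgroup M} (lamU : lam ∈ U) (hst : ∀ g : H, g • lam = lam → ∀ u ∈ U, g • u ∈ U) : NoH H M U := by
  intro B hB
  let _ : MulDistribMulAction H (Multiplicative M) := mulAct
  have he : ∀ (g : H) (m : Multiplicative M), g • m = Multiplicative.ofAdd (g • Multiplicative.toAdd m) :=
    fun _ _ => rfl
  have he' : ∀ (g : H) (m : M), g • (Multiplicative.ofAdd m) = Multiplicative.ofAdd (g • m) := fun _ _ => rfl
  let Q : Subgroup H := (One.bb U : Subgroup H)
  have hQ2 : ∀ q ∈ Q, ∀ m : M, q • q • m = m := by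
    intro q hq m
    have h1 := One.sub_mul (U := U) hq hq m
    rw [two, sub_eq_zero, mul_smul] at h1
    exact h1
  have hD : ML.Final.Dat (C := H) (V := Multiplicative M) T Q B (Multiplicative.ofAdd lam) := by
    refine ⟨fun v => two _, hT, hT2, fun t ht => ?_, fun q hq => ⟨1, fun v => ?_⟩, fun q hq => ?_, fun g hg q hq => ?_,
      fun a ha => ⟨a, hB a ha, fun _ => rfl⟩, fun a ha v => ?_⟩
    · rw [he', hlam t ht]
    · rw [pow_one, pow_two, mul_smul]
      exact congrArg Multiplicative.ofAdd (hQ2 q hq _)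
    · rw [he', One.bb_fix hq lamU]
    · rw [he'] at hg
      have hg' : g • lam = lam := hg
      have hg'' : g⁻¹ • lam = lam := by rw [inv_smul_eq_iff, hg']
      refine ⟨g * q * g⁻¹, ⟨fun u hu => ?_, fun m => ?_⟩, fun _ => rfl⟩
      · rw [mul_smul, mul_smul, One.bb_fix hq (hst g⁻¹ hg'' u hu), smul_inv_smul]
      · have h1 := hst g hg' _ (One.bb_sub hq (g⁻¹ • m))
        rwa [smul_sub, smul_inv_smul, ← mul_smul, ← mul_smul] at h1
    · exact congrArg Multiplicative.ofAdd (hQ2 a (hB a ha) _)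
  have key := hML.act hK hD
  have horb : orb (⊤ : Subgroup H) (Multiplicative.ofAdd lam) = ⊤ := by
    rw [eq_top_iff]
    intro m _
    have h1 := hspan (Multiplicative.toAdd m)
    have h2 : AddSubgroup.closure {v | ∃ g : H, v = g • lam} ≤
        AddSubgroup.toSubgroup.symm (orb (⊤ : Subgroup H) (Multiplicative.ofAdd lam)) := by
      rw [AddSubgroup.closure_le]
      rintro _ ⟨g, rfl⟩
      exact smul_mem_orb_self (z := Multiplicative.ofAdd lam) (mem_top g)
    exact h2 h1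
  rw [horb, relIndex_top_right] at key
  have h1 : (fxr H (⊤ : Subgroup (Multiplicative M))) = kerM H M := by
    ext g
    constructor
    · exact fun hg m => hg (Multiplicative.ofAdd m) (mem_top _)
    · exact fun hg m _ => hg (Multiplicative.toAdd m)
  rw [h1] at key
  have h2 : Nat.card (One.cv M B) = Nat.card (Cfsg.Agent.ClassTwoFusion.Quad.cv (Multiplicative M) (B : Set H)) :=
    Nat.card_congr (Equiv.refl _)
  rw [h2]
  calc _ ≤ _ := Nat.mul_le_mul_right _ key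
    _ = Nat.card (Multiplicative M) := by rw [mul_comm, Subgroup.card_mul_index]
    _ = Nat.card M := rfl

end

section

variable {G : Type u} [Group G] {M : Type v} [AddCommGroup M]
variable {T V : Subgroup G} {z p x g : G} [DistribMulAction (centralizer ({p} : Set G)) M] {π : G → M}

/-- **(NO) for subgroups of `H_p`** -/
theorem noH_of [Finite G] (hML : ML.Final.MLK.{u, v}) (h : Fr T V z) (hK : IsKGroup (centralizer ({p} : Set G)))
    (md : Md V p π) (hp : p ∈ cj g V) (hp1 : p ≠ 1) (hx : x ∈ cj g V) (hx1 : x ≠ 1) (hne : x ≠ p)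
    {U : AddSubgroup M} (hU : ∀ m, m ∈ U ↔ ∃ a ∈ ii (cj g V), π a = m) : NoH (centralizer ({p} : Set G)) M U := by
  have hc : Col V p x := Col.of_mem hp hx hp1 hx1
  have hfin : Finite M := by
    refine Finite.of_surjective (fun a : ws V p => π a) fun m => ?_
    obtain ⟨a, ha, e⟩ := md.surj m
    exact ⟨⟨a, ha⟩, e⟩
  obtain ⟨T', hT', hTp, hT2, hT3, -, -⟩ := exists_T h hc hne
  have hxw := h.mem_ws_of_col hc
  refine noH_of_module hML hK (md.two h hc.left) (T := T'.subgroupOf (centralizer ({p} : Set G)))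
    (hTp.of_equiv (subgroupOfEquivOfLe hT').symm) hT2 (lam := π x) (fun t ht => ?_) (span_top h md hc hne)
    (Md.lam_mem_U h md hp hp1 hx hU) fun c hcc u hu => Md.stab_U h md hp hp1 hx hx1 hne hU hcc hu
  rw [← md.smul t x hxw, md.eq_iff h hc.left (conj_mem_ws_of_mem t.2 hxw) hxw]
  exact hT3 t (mem_subgroupOf.1 ht)

end

end Cfsg.Agent.Omega.NOThree.LL

end

section


/-!
# THEOREM LL (helper975 #18157), section 5: the count

* `Two V p q r` : every commutator `[a, b]`, `a ∈ W_p`, `b ∈ W_q`, is `1` or `r`;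
* `relIndex_le_card` : `|W : C_W(f)| ≤ |S|` if all `[w, f]`, `w ∈ W`, lie in `S`;
* `Up` : `U_p = ⟨W_y : y ∼ p⟩` (abelian, normalised by `C(p)`);
* `Goal.gg` : a goal pair of `SecOne.lemM` is GOAL for `ch x y`;
* `Cnt` : the setting at `q`: `B ≤ M_q`, `M_q = B + C(A')`, the stabiliser of `r` normalises `B`;
* `Cnt.false` : the contradiction, if `|B| ≤ |W_z : I_V|`, `q`-movers with (D) exist and `|[W_x, W_{q'}]| ≤ 2` for the
  children.
-/

set_option autoImplicit false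
set_option linter.unusedSectionVars false

namespace Cfsg.Agent.Omega.NOThree.LL

open Subgroup Cfsg Cfsg.Agent.ZN Cfsg.Agent.MinSimple.Geo Cfsg.Agent.Omega.CaseL Cfsg.Agent.Omega.NO3S.TwoOne
open Cfsg.Agent.Omega.NO3S.Pt
open Cfsg.Agent.Omega.NOThree.SecOne (Exact ee mem_ee Goal)
open Cfsg.Agent.Omega.NOThree.TF (Md conj_mem_ws_of_mem)
open Cfsg.Agent.Omega.NOThree.LemmaM (NoOver)

universe u v

variable {G : Type u} [Group G]

/-- `|W : C_W(f)| ≤ |S|` if `[W, f] ⊆ S` -/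
theorem relIndex_le_card [Finite G] {W : Subgroup G} {f : G} {S : Set G}
    (h : ∀ w ∈ W, w * f * w⁻¹ * f⁻¹ ∈ S) : (W ⊓ centralizer ({f} : Set G)).relIndex W ≤ Nat.card S := by
  set K := (W ⊓ centralizer ({f} : Set G)).subgroupOf W with hK
  change Nat.card (W ⧸ K) ≤ _
  have hS : Finite S := Subtype.finite
  refine Nat.card_le_card_of_injective
    (fun x : W ⧸ K => (⟨(x.out : G) * f * (x.out : G)⁻¹ * f⁻¹, h _ x.out.2⟩ : S)) ?_
  intro a b hab
  have h1 : (a.out : G) * f * (a.out : G)⁻¹ * f⁻¹ = (b.out : G) * f * (b.out : G)⁻¹ * f⁻¹ :=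
    congrArg Subtype.val hab
  have h2 : (a.out : G) * f * (a.out : G)⁻¹ = (b.out : G) * f * (b.out : G)⁻¹ := mul_right_cancel h1
  have h3 : (a.out)⁻¹ * b.out ∈ K := by
    have h4 : (a.out : G)⁻¹ * b.out ∈ W := W.mul_mem (W.inv_mem a.out.2) b.out.2
    refine mem_subgroupOf.2 ⟨h4, ?_⟩
    refine mem_centralizer_singleton_iff.2 ?_
    change (a.out : G)⁻¹ * b.out * f = f * ((a.out : G)⁻¹ * b.out)
    calc (a.out : G)⁻¹ * b.out * f = (a.out : G)⁻¹ * (b.out * f * (b.out : G)⁻¹) * b.out := by group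
      _ = (a.out : G)⁻¹ * (a.out * f * (a.out : G)⁻¹) * b.out := by rw [h2]
      _ = f * ((a.out : G)⁻¹ * b.out) := by group
  have h4 := QuotientGroup.eq.2 h3
  exact ((QuotientGroup.out_eq' a).symm.trans h4).trans (QuotientGroup.out_eq' b)

/-- `U_p` -/
def Up (V : Subgroup G) (p : G) : Subgroup G := closure {a | ∃ y, Col V p y ∧ a ∈ ws V y}

section up

variable {V : Subgroup G} {p : G} {m : ℕ}

theorem ws_le_Up {y : G} (hy : Col V p y) : ws V y ≤ Up V p := fun _ ha => subset_closure ⟨y, hy, ha⟩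

theorem Up_comm (hm : Mn V (m + 3)) : ∀ a ∈ Up V p, ∀ b ∈ Up V p, a * b = b * a := by
  have h1 : Up V p ≤ centralizer ({a | ∃ y, Col V p y ∧ a ∈ ws V y} : Set G) := by
    unfold Up
    rw [closure_le]
    rintro a ⟨y, hy, ha⟩
    rw [SetLike.mem_coe, mem_centralizer_iff]
    rintro b ⟨y', hy', hb⟩
    exact (hm 2 (by omega) y y' ((Pth.of_col hy').head hy.symm) a ha b hb).symm
  have h2 : Up V p ≤ centralizer (Up V p : Set G) := by
    conv_lhs => unfold Up
    rw [closure_le]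
    intro a ha
    rw [SetLike.mem_coe, mem_centralizer_iff]
    intro b hb
    exact (mem_centralizer_iff.1 (h1 hb) a ha).symm
  intro a ha b hb
  exact (mem_centralizer_iff.1 (h2 ha) b hb).symm

theorem conj_mem_Up {g a : G} (hg : g ∈ centralizer ({p} : Set G)) (ha : a ∈ Up V p) : g * a * g⁻¹ ∈ Up V p := by
  have h1 : Up V p ≤ cj g⁻¹ (Up V p) := by
    conv_lhs => unfold Up
    rw [closure_le]
    rintro a ⟨y, hy, ha⟩
    rw [SetLike.mem_coe, mem_cj, inv_inv]
    refine subset_closure ⟨g * y * g⁻¹, ?_, conj_mem_ws g ha⟩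
    have h2 := hy.conj g
    rwa [NO3S.Dual.conj_eq_of_comm (mem_centralizer_singleton_iff.1 hg)] at h2
  have h2 := h1 ha
  rwa [mem_cj, inv_inv] at h2

end up

/-- `[W_p, W_q] ⊆ {1, r}` -/
def Two (V : Subgroup G) (p q r : G) : Prop :=
  ∀ a ∈ ws V p, ∀ b ∈ ws V q, a * b * a⁻¹ * b⁻¹ = 1 ∨ a * b * a⁻¹ * b⁻¹ = r

section

variable {T V : Subgroup G} {z : G} {m : ℕ} {y : ℕ → G} {x f : G}

/-- the goal pair of `SecOne.lemM` -/
theorem gg_of_goal (gg : GG V (m + 3) y) (h : Goal V (m + 3) x (y 0) (y (m + 2))) : GG V (m + 3) (ch x y) where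
  cr := h.crit
  path := by
    intro i hi
    cases i with
    | zero => exact h.col
    | succ i => exact gg.path i (by omega)
  not_mem := h.not_mem
  not_mem' := h.not_mem'
  le := fun a ha b hb => (h.le a ha b hb).2

/-- `|W : C_W(q)| ≤ 2` if `[W_x, W_{q'}] ⊆ {1, r}`, `q ∈ W_{q'}` -/
theorem relIndex_le_two [Finite G] {q q' r : G} (h : Two V x q' r) (hq : q ∈ ws V q') :
    (ws V x ⊓ centralizer ({q} : Set G)).relIndex (ws V x) ≤ 2 := by
  classical
  have h1 := relIndex_le_card (W := ws V x) (f := q) (S := (({1, r} : Finset G) : Set G)) (fun w hw => by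
    rcases h w hw q hq with e | e
    · rw [e]; simp
    · rw [e]; simp)
  refine h1.trans ?_
  rw [Nat.card_coe_set_eq, Set.ncard_coe_finset]
  exact Finset.card_le_two

end

/-! ### the setting -/

section main

variable {T V : Subgroup G} {z : G} {m : ℕ} {y : ℕ → G} {r : G} {M : Type v} [AddCommGroup M]
  [DistribMulAction (centralizer ({y (m + 3)} : Set G)) M] {π : G → M} {B : AddSubgroup M}

/-- `C_M(A')`, `A' = W_p` -/
def FF (V : Subgroup G) (p q : G) (M : Type v) [AddCommGroup M] [DistribMulAction (centralizer ({q} : Set G)) M] :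
    AddSubgroup M where
  carrier := {v | ∀ a : centralizer ({q} : Set G), (a : G) ∈ ws V p → a • v = v}
  add_mem' := by
    intro x y hx hy a ha
    rw [smul_add, hx a ha, hy a ha]
  zero_mem' := fun a _ => smul_zero a
  neg_mem' := by
    intro x hx a ha
    rw [smul_neg, hx a ha]

theorem mem_FF {V : Subgroup G} {p q : G} {M : Type v} [AddCommGroup M]
    [DistribMulAction (centralizer ({q} : Set G)) M] {v : M} :
    v ∈ FF V p q M ↔ ∀ a : centralizer ({q} : Set G), (a : G) ∈ ws V p → a • v = v := Iff.rfl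

/-- the setting at `q = y (m+3)`, `p = y 0` : `[W_p, W_q] = {1, r}`, `B ≤ M_q` -/
structure Cnt (T V : Subgroup G) (z : G) (m : ℕ) (y : ℕ → G) (r : G) (M : Type v) [AddCommGroup M]
    [DistribMulAction (centralizer ({y (m + 3)} : Set G)) M] (π : G → M) (B : AddSubgroup M) : Prop where
  fr : Fr T V z
  no : NoOver (NO3S.TwoFar.inc (V := V)) NO3S.TwoFar.RR NO3S.TwoFar.WS NO3S.TwoFar.VL
  gg : GG V (m + 3) y
  md : Md V (y (m + 3)) π
  two : Two V (y 0) (y (m + 3)) r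
  /-- `M_q = B + C(A')` -/
  sup : B ⊔ FF V (y 0) (y (m + 3)) M = ⊤
  /-- the stabiliser of `r` normalises `B` -/
  stab : ∀ c : centralizer ({y (m + 3)} : Set G), c • π r = π r → ∀ b ∈ B, c • b ∈ B

namespace Cnt

theorem hp (s : Cnt T V z m y r M π B) : Col V (y 0) (y 0) := (s.gg.path 0 (by omega)).left

theorem hrq (s : Cnt T V z m y r M π B) : Col V (y (m + 2)) (y (m + 3)) :=
  s.gg.path (m + 2) (show m + 2 < m + 3 by omega)

theorem hq (s : Cnt T V z m y r M π B) : Col V (y (m + 3)) (y (m + 3)) := s.hrq.right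

theorem hpr (s : Cnt T V z m y r M π B) : Pth V (m + 2) (y 0) (y (m + 2)) := by
  have h1 : m + 2 ≤ m + 3 := by omega
  have h2 : 0 < m + 3 := by omega
  exact s.gg.pth (i := 0) (j := m + 2) (Nat.zero_le _) h1 h2

variable [Finite G] (s : Cnt T V z m y r M π B)
include s

theorem ex : Exact V (y 0) (y (m + 3)) := s.gg.exact s.fr s.no

theorem wp_le : ws V (y 0) ≤ centralizer ({y (m + 3)} : Set G) := s.gg.cr.cent s.fr

theorem wq_le : ws V (y (m + 3)) ≤ centralizer ({y 0} : Set G) := s.gg.cr.symm.cent s.fr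

theorem mem_FF_iff {f : G} (hf : f ∈ ws V (y (m + 3))) :
    π f ∈ FF V (y 0) (y (m + 3)) M ↔ f ∈ ee V (y (m + 3)) (y 0) := by
  rw [mem_FF, mem_ee]
  constructor
  · intro h
    refine ⟨hf, fun b hb => (mem_ee.1 (s.ex.cent' f hf fun w hw => ?_)).2 b hb⟩
    have h1 := h ⟨w, s.wp_le hw⟩ hw
    rw [← s.md.smul ⟨w, s.wp_le hw⟩ f hf, s.md.eq_iff s.fr s.hq (conj_mem_ws_of_mem (s.wp_le hw) hf) hf] at h1
    rw [mem_zpowers_iff_of_mul_self (s.fr.pt_sq s.hq)]
    rcases h1 with e | e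
    · left
      change w * f * w⁻¹ = f at e
      rw [e, mul_inv_cancel]
    · right
      change w * f * w⁻¹ = y (m + 3) * f at e
      rw [e, mul_inv_cancel_right]
  · rintro ⟨-, h⟩ a ha
    rw [← s.md.smul a f hf]
    congr 1
    exact NO3S.Dual.conj_eq_of_comm (h _ ha).symm

theorem not_le : ¬ B ≤ FF V (y 0) (y (m + 3)) M := by
  intro hle
  have h1 := s.sup
  rw [sup_eq_right.2 hle] at h1
  apply s.gg.cr.ne
  intro a ha b hb
  have h2 : π b ∈ FF V (y 0) (y (m + 3)) M := by rw [h1]; trivial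
  exact ((mem_ee.1 ((s.mem_FF_iff hb).1 h2)).2 a ha).symm

/-- some `f ∈ W_q - E'` lies over `B` -/
theorem exists_f : ∃ f ∈ ws V (y (m + 3)), π f ∈ B ∧ f ∉ ee V (y (m + 3)) (y 0) := by
  obtain ⟨b, hb, hbF⟩ := SetLike.not_le_iff_exists.1 s.not_le
  obtain ⟨f, hf, rfl⟩ := s.md.surj b
  exact ⟨f, hf, hb, fun h => hbF ((s.mem_FF_iff hf).2 h)⟩

omit s in
theorem finite_M (md : Md V (y (m + 3)) π) : Finite M := by
  refine Finite.of_surjective (fun a : ws V (y (m + 3)) => π a) fun v => ?_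
  obtain ⟨a, ha, e⟩ := md.surj v
  exact ⟨⟨a, ha⟩, e⟩

/-- `2 |C_B(A')| ≤ |B|` -/
theorem card_Q : 2 * Nat.card ((FF V (y 0) (y (m + 3)) M).addSubgroupOf B) ≤ Nat.card B := by
  have := finite_M s.md
  have h1 := AddSubgroup.card_mul_index ((FF V (y 0) (y (m + 3)) M).addSubgroupOf B)
  have h2 : ((FF V (y 0) (y (m + 3)) M).addSubgroupOf B).index ≠ 1 := by
    intro h
    rw [AddSubgroup.index_eq_one, AddSubgroup.addSubgroupOf_eq_top] at h
    exact s.not_le h
  have h3 : ((FF V (y 0) (y (m + 3)) M).addSubgroupOf B).index ≠ 0 := AddSubgroup.index_ne_zero_of_finite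
  have h4 : 2 ≤ ((FF V (y 0) (y (m + 3)) M).addSubgroupOf B).index := by omega
  rw [← h1, mul_comm]
  exact Nat.mul_le_mul_left _ h4

/-- `x ∼ p`, `w ∈ C_{W_x}(q)` fixes `r` -/
theorem fix_r {x w : G} (hx : Col V (y 0) x) (hw : w ∈ ws V x) (hwq : w ∈ centralizer ({y (m + 3)} : Set G)) :
    (⟨w, hwq⟩ : centralizer ({y (m + 3)} : Set G)) • π r = π r := by
  -- `r = [a, b]`
  obtain ⟨a, ha, b, hb, hab⟩ : ∃ a ∈ ws V (y 0), ∃ b ∈ ws V (y (m + 3)), a * b * a⁻¹ * b⁻¹ ≠ 1 := by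
    by_contra hcon
    push Not at hcon
    exact s.gg.cr.ne fun a ha b hb => SecOne.comm_of_comm_eq_one (hcon a ha b hb)
  have hr : a * b * a⁻¹ * b⁻¹ = r := (s.two a ha b hb).resolve_left hab
  have hrw : r ∈ ws V (y (m + 3)) := by
    rw [← hr]
    exact s.gg.cr.comm_mem_right s.fr ha hb
  rw [← s.md.smul ⟨w, hwq⟩ r hrw]
  congr 1
  change w * r * w⁻¹ = r
  have hwa : w * a * w⁻¹ = a :=
    NO3S.Dual.conj_eq_of_comm (s.gg.cr.min 1 (by omega) x (y 0) (Pth.of_col hx.symm) w hw a ha)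
  have h1 : w * r * w⁻¹ = a * (w * b * w⁻¹) * a⁻¹ * (w * b * w⁻¹)⁻¹ := by
    rw [← hr]
    calc w * (a * b * a⁻¹ * b⁻¹) * w⁻¹ = (w * a * w⁻¹) * (w * b * w⁻¹) * (w * a * w⁻¹)⁻¹ * (w * b * w⁻¹)⁻¹ := by
          group
      _ = a * (w * b * w⁻¹) * a⁻¹ * (w * b * w⁻¹)⁻¹ := by rw [hwa]
  rcases s.two a ha (w * b * w⁻¹) (conj_mem_ws_of_mem hwq hb) with e | e
  · exfalso
    rw [← h1] at e
    rw [← hr] at e
    exact hab (conj_eq_one_iff.1 e)
  · rw [h1, e]

/-- the commutators `[w, f]` -/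
theorem comm_mem {x w f : G} (hx : Col V (y 0) x) (hw : w ∈ ws V x)
    (hwq : w ∈ centralizer ({y (m + 3)} : Set G)) (hf : f ∈ ws V (y (m + 3))) (hfB : π f ∈ B) :
    w * f * w⁻¹ * f⁻¹ ∈ ws V (y (m + 3)) ∧ w * f * w⁻¹ * f⁻¹ ∈ Up V (y 0) ∧
      π (w * f * w⁻¹ * f⁻¹) ∈ B ∧ π (w * f * w⁻¹ * f⁻¹) ∈ FF V (y 0) (y (m + 3)) M := by
  have h1 : w * f * w⁻¹ ∈ ws V (y (m + 3)) := conj_mem_ws_of_mem hwq hf
  have h2 : w * f * w⁻¹ * f⁻¹ ∈ ws V (y (m + 3)) := mul_mem h1 (inv_mem hf)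
  have h3 : w * f * w⁻¹ * f⁻¹ ∈ Up V (y 0) := by
    have e : w * f * w⁻¹ * f⁻¹ = w * (f * w⁻¹ * f⁻¹) := by group
    rw [e]
    exact mul_mem (ws_le_Up hx hw) (conj_mem_Up (s.wq_le hf) (ws_le_Up hx (inv_mem hw)))
  refine ⟨h2, h3, ?_, ?_⟩
  · have hff : f⁻¹ = f := inv_eq_of_mul_eq_one_left (s.fr.ws_sq s.hq f hf)
    rw [hff, s.md.map_mul _ h1 _ hf]
    refine add_mem ?_ hfB
    have h4 := s.stab ⟨w, hwq⟩ (s.fix_r hx hw hwq) _ hfB
    rwa [← s.md.smul ⟨w, hwq⟩ f hf] at h4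
  · intro a ha
    rw [← s.md.smul a _ h2]
    congr 1
    exact NO3S.Dual.conj_eq_of_comm (Up_comm s.gg.cr.min _ (ws_le_Up s.hp ha) _ h3)

/-- the set of the commutators -/
def Sc (V : Subgroup G) (m : ℕ) (y : ℕ → G) {M : Type v} [AddCommGroup M]
    [DistribMulAction (centralizer ({y (m + 3)} : Set G)) M] (π : G → M) (B : AddSubgroup M) : Set G :=
  {c : G | c ∈ ws V (y (m + 3)) ∧ c ∈ Up V (y 0) ∧ π c ∈ B ∧ π c ∈ FF V (y 0) (y (m + 3)) M}

/-- `q ∉ U_p` -/
theorem card_le (hq : y (m + 3) ∉ Up V (y 0)) :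
    Nat.card (Sc V m y π B) ≤ Nat.card ((FF V (y 0) (y (m + 3)) M).addSubgroupOf B) := by
  have := finite_M s.md
  refine Nat.card_le_card_of_injective (fun c : Sc V m y π B => (⟨⟨π c.1, c.2.2.2.1⟩, c.2.2.2.2⟩ :
    (FF V (y 0) (y (m + 3)) M).addSubgroupOf B)) ?_
  rintro ⟨a, ha1, ha2, ha3, ha4⟩ ⟨b, hb1, hb2, hb3, hb4⟩ hab
  have h1 : π a = π b := congrArg (fun x => ((x : B) : M)) (congrArg Subtype.val hab)
  refine Subtype.ext ?_
  rcases (s.md.eq_iff s.fr s.hq ha1 hb1).1 h1 with e | e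
  · exact e
  · exfalso
    apply hq
    have e2 : y (m + 3) = a * b⁻¹ := by rw [e, mul_inv_cancel_right]
    rw [e2]
    exact mul_mem ha2 (inv_mem hb2)

/-- in general -/
theorem card_le' :
    Nat.card (Sc V m y π B) ≤ 2 * Nat.card ((FF V (y 0) (y (m + 3)) M).addSubgroupOf B) := by
  classical
  have := finite_M s.md
  choose g hg1 hg2 using s.md.surj
  have h2 : 2 * Nat.card ((FF V (y 0) (y (m + 3)) M).addSubgroupOf B) =
      Nat.card (Bool × (FF V (y 0) (y (m + 3)) M).addSubgroupOf B) := by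
    rw [Nat.card_prod]
    simp
  rw [h2]
  refine Nat.card_le_card_of_injective (fun c : Sc V m y π B =>
    (decide (c.1 = g (π c.1)), (⟨⟨π c.1, c.2.2.2.1⟩, c.2.2.2.2⟩ :
      (FF V (y 0) (y (m + 3)) M).addSubgroupOf B))) ?_
  rintro ⟨a, ha1, ha2, ha3, ha4⟩ ⟨b, hb1, hb2, hb3, hb4⟩ hab
  obtain ⟨hab1, hab2⟩ := Prod.ext_iff.1 hab
  have h1 : π a = π b := congrArg (fun x => ((x : B) : M)) (congrArg Subtype.val hab2)
  have h3 : (a = g (π a)) ↔ (b = g (π b)) := by simpa using hab1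
  refine Subtype.ext ?_
  change a = b
  rw [← h1] at h3
  by_cases h4 : a = g (π a)
  · exact h4.trans (h3.1 h4).symm
  · have h5 : b ≠ g (π a) := fun h => h4 (h3.2 h)
    have h6 := hg2 (π a)
    have h7 := hg1 (π a)
    rcases (s.md.eq_iff s.fr s.hq ha1 h7).1 h6.symm with e | e
    · exact absurd e h4
    · rcases (s.md.eq_iff s.fr s.hq hb1 h7).1 (h1.symm.trans h6.symm) with e' | e'
      · exact absurd e' h5
      · rw [e, e']

/-- **section 5** : no such pair -/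
theorem false (hcard : Nat.card B ≤ (ii V).relIndex (ws V z))
    (hmv : ∀ f ∈ ws V (y (m + 3)), f ∉ ee V (y (m + 3)) (y 0) → ∃ x, Mv V (m + 3) y x f ∧ DD V (y 0) x f)
    (hch : ∀ x f, Child V m y x f → ∃ r', Two V x (y (m + 2)) r') : False := by
  obtain ⟨f, hf, hfB, hfE⟩ := s.exists_f
  obtain ⟨x, mv, hD⟩ := hmv f hf hfE
  have hr : Pth V (m + 3 - 1) (y 0) (y (m + 2)) := s.hpr
  obtain ⟨h1, h2⟩ := SecOne.lemM s.fr (by omega) s.no s.gg.cr hr s.hrq mv.col.symm hf mv.mv hD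
  have := finite_M s.md
  have hB0 : 0 < Nat.card B := Nat.card_pos
  have hqr : y (m + 3) ∈ ws V (y (m + 2)) := s.fr.mem_ws_of_col s.hrq
  -- `|W_x : C_{W_x}(q)| ≤ 2`
  have h3 : (ws V x ⊓ centralizer ({y (m + 3)} : Set G)).relIndex (ws V x) ≤ 2 := by
    rcases h2 with h2 | ⟨h2, -⟩
    · obtain ⟨r', hr'⟩ := hch x f ⟨gg_of_goal s.gg h2, mv, hD⟩
      exact relIndex_le_two hr' hqr
    · have e : ws V x ⊓ centralizer ({y (m + 3)} : Set G) = ws V x := by
        rw [inf_eq_left]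
        intro w hw
        rw [mem_centralizer_singleton_iff]
        exact h2 w hw _ hqr
      rw [e, relIndex_self]
      omega
  have hQ := s.card_Q
  set W0 := ws V x ⊓ centralizer ({y (m + 3)} : Set G) with hW0
  -- `|W_x : C_{W_x}(f)| ≤ |B|`
  have h4 : (ws V x ⊓ centralizer ({f} : Set G)).relIndex (ws V x) ≤ Nat.card B := by
    by_cases hq : y (m + 3) ∈ Up V (y 0)
    · have hle : ∀ w ∈ ws V x, w ∈ centralizer ({y (m + 3)} : Set G) := by
        intro w hw
        rw [mem_centralizer_singleton_iff]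
        exact Up_comm s.gg.cr.min w (ws_le_Up mv.col hw) _ hq
      have h5 := relIndex_le_card (W := ws V x) (f := f) (S := Sc V m y π B)
        fun w hw => s.comm_mem mv.col hw (hle w hw) hf hfB
      exact (h5.trans s.card_le').trans hQ
    · have h5 := relIndex_le_card (W := W0) (f := f) (S := Sc V m y π B)
        fun w hw => s.comm_mem mv.col hw.1 hw.2 hf hfB
      have h6 := h5.trans (s.card_le hq)
      have h7 : (W0 ⊓ centralizer ({f} : Set G)).relIndex (ws V x) =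
          (W0 ⊓ centralizer ({f} : Set G)).relIndex W0 * W0.relIndex (ws V x) :=
        (relIndex_mul_relIndex _ _ _ inf_le_left inf_le_left).symm
      have h8 : (ws V x ⊓ centralizer ({f} : Set G)).relIndex (ws V x) ≤
          (W0 ⊓ centralizer ({f} : Set G)).relIndex (ws V x) :=
        relIndex_le_of_le_left (inf_le_inf_right _ inf_le_left) index_ne_zero_of_finite
      calc (ws V x ⊓ centralizer ({f} : Set G)).relIndex (ws V x)
          ≤ (W0 ⊓ centralizer ({f} : Set G)).relIndex W0 * W0.relIndex (ws V x) := h7 ▸ h8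
        _ ≤ Nat.card ((FF V (y 0) (y (m + 3)) M).addSubgroupOf B) * 2 := Nat.mul_le_mul h6 h3
        _ = 2 * Nat.card ((FF V (y 0) (y (m + 3)) M).addSubgroupOf B) := mul_comm _ _
        _ ≤ Nat.card B := hQ
  have h9 : 0 < (ii V).relIndex (ws V z) := hB0.trans_le hcard
  omega

end Cnt

end main

end Cfsg.Agent.Omega.NOThree.LL

end

section


/-!
# TwoFar, THEOREM LL (#18157), section 4 for a GOAL pair

`y` a geodesic of a GOAL pair, no `[a, b]`, `a ∈ W_{y 0}`, `b ∈ W_{y (m+3)}`, is a point collinear with `y 0`;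
a transvection of `M_{y 0}` with centre `c ∈ U_λ`, not a line vector.

* `GG.two` : `[W_p, W_q] = {1, r}`;
* `block_of_bd` : the blocks of `M_p`.
-/

set_option autoImplicit false
set_option linter.unusedSectionVars false

namespace Cfsg.Agent.Omega.NOThree.LL

open Subgroup Cfsg Cfsg.Agent.ZN Cfsg.Agent.MinSimple.Geo Cfsg.Agent.Omega.CaseL Cfsg.Agent.Omega.NO3S.TwoOne
open Cfsg.Agent.Omega.NO3S.Pt
open Cfsg.Agent.Omega.NOThree.TF (Md conj_mem_ws_of_mem exists_T)

universe u v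

variable {G : Type u} [Group G] {T V : Subgroup G} {z : G}

section bil

variable {n : ℕ} {p q : G}

/-- the commutator is multiplicative in the first variable -/
theorem Cr.comm_mul_left [Finite G] (h : Fr T V z) (hc : Cr V (n + 1) p q) {a a' b : G} (ha : a ∈ ws V p)
    (ha' : a' ∈ ws V p) (hb : b ∈ ws V q) :
    a * a' * b * (a * a')⁻¹ * b⁻¹ = (a * b * a⁻¹ * b⁻¹) * (a' * b * a'⁻¹ * b⁻¹) := by
  have h1 := hc.comm_mem_left h ha' hb
  have hp : Col V p p := hc.path.left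
  have e1 : a * a' * b * (a * a')⁻¹ * b⁻¹ = a * (a' * b * a'⁻¹ * b⁻¹) * a⁻¹ * (a * b * a⁻¹ * b⁻¹) := by group
  have e2 : a * (a' * b * a'⁻¹ * b⁻¹) * a⁻¹ = a' * b * a'⁻¹ * b⁻¹ := by
    rw [h.ws_comm hp a ha _ h1, mul_inv_cancel_right]
  rw [e1, e2]
  exact h.ws_comm hp _ h1 _ (hc.comm_mem_left h ha hb)

/-- the commutator is multiplicative in the second variable -/
theorem Cr.comm_mul_right [Finite G] (h : Fr T V z) (hc : Cr V (n + 1) p q) {a b b' : G} (ha : a ∈ ws V p)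
    (hb : b ∈ ws V q) (hb' : b' ∈ ws V q) :
    a * (b * b') * a⁻¹ * (b * b')⁻¹ = (a * b * a⁻¹ * b⁻¹) * (a * b' * a⁻¹ * b'⁻¹) := by
  have h1 := hc.comm_mem_right h ha hb'
  have hq : Col V q q := hc.path.right
  have e1 : a * (b * b') * a⁻¹ * (b * b')⁻¹ = (a * b * a⁻¹ * b⁻¹) * (b * (a * b' * a⁻¹ * b'⁻¹) * b⁻¹) := by group
  have e2 : b * (a * b' * a⁻¹ * b'⁻¹) * b⁻¹ = a * b' * a⁻¹ * b'⁻¹ := by
    rw [h.ws_comm hq b hb _ h1, mul_inv_cancel_right]
  rw [e1, e2]

/-- a biadditive map with values in `{0, c, c + l}` has values in `{0, c}` or in `{0, c + l}` -/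
theorem bil_aux {M : Type*} [AddCommGroup M] (hs : ∀ m : M, m + m = 0) {c l x x' u v : M} (hl : l ≠ 0) (hc : c ≠ 0)
    (hcl : c ≠ l) (hx0 : x ≠ 0) (hx0' : x' ≠ 0) (hx : x = 0 ∨ x = c ∨ x = c + l) (hx' : x' = 0 ∨ x' = c ∨ x' = c + l)
    (hu : u = 0 ∨ u = c ∨ u = c + l) (hv : v = 0 ∨ v = c ∨ v = c + l)
    (h1 : x + u = 0 ∨ x + u = c ∨ x + u = c + l) (h2 : v + x' = 0 ∨ v + x' = c ∨ v + x' = c + l)
    (h3 : x + v = 0 ∨ x + v = c ∨ x + v = c + l) (h4 : u + x' = 0 ∨ u + x' = c ∨ u + x' = c + l)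
    (h5 : x + u + (v + x') = 0 ∨ x + u + (v + x') = c ∨ x + u + (v + x') = c + l) : x' = x := by
  have hn : ¬ (l = 0 ∨ l = c ∨ l = c + l) := by
    rintro (e | e | e)
    · exact hl e
    · exact hcl e.symm
    · exact hc (right_eq_add.1 e)
  have e1 : c + (c + l) = l := by rw [← add_assoc, hs, zero_add]
  have e2 : c + l + c = l := by rw [add_comm, e1]
  have key : ∀ x x' : M, x + x' = l → (x = c ∧ x' = c + l) ∨ (x = c + l ∧ x' = c) →
      ∀ u : M, (u = 0 ∨ u = c ∨ u = c + l) → (x + u = 0 ∨ x + u = c ∨ x + u = c + l) →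
      (u + x' = 0 ∨ u + x' = c ∨ u + x' = c + l) → u = 0 := by
    rintro x x' - (⟨rfl, rfl⟩ | ⟨rfl, rfl⟩) u (rfl | rfl | rfl) h1 h2
    · rfl
    · rw [e1] at h2; exact absurd h2 hn
    · rw [e1] at h1; exact absurd h1 hn
    · rfl
    · rw [e2] at h1; exact absurd h1 hn
    · rw [e2] at h2; exact absurd h2 hn
  have fin : ∀ x x' : M, x + x' = l → (x = c ∧ x' = c + l) ∨ (x = c + l ∧ x' = c) →
      (x + u = 0 ∨ x + u = c ∨ x + u = c + l) → (v + x' = 0 ∨ v + x' = c ∨ v + x' = c + l) →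
      (x + v = 0 ∨ x + v = c ∨ x + v = c + l) → (u + x' = 0 ∨ u + x' = c ∨ u + x' = c + l) →
      (x + u + (v + x') = 0 ∨ x + u + (v + x') = c ∨ x + u + (v + x') = c + l) → False := by
    intro x x' hxx hc h1 h2 h3 h4 h5
    have k1 := key x x' hxx hc u hu h1 h4
    have k2 := key x x' hxx hc v hv h3 h2
    rw [k1, k2, add_zero, zero_add, hxx] at h5
    exact hn h5
  rcases hx with rfl | rfl | rfl
  · exact absurd rfl hx0
  · rcases hx' with rfl | rfl | rfl
    · exact absurd rfl hx0'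
    · rfl
    · exact (fin _ _ e1 (Or.inl ⟨rfl, rfl⟩) h1 h2 h3 h4 h5).elim
  · rcases hx' with rfl | rfl | rfl
    · exact absurd rfl hx0'
    · exact (fin _ _ e2 (Or.inr ⟨rfl, rfl⟩) h1 h2 h3 h4 h5).elim
    · rfl

end bil

section main

variable {m : ℕ} {y : ℕ → G} {M : Type v} [AddCommGroup M] [DistribMulAction (centralizer ({y 0} : Set G)) M]
  {π : G → M} {g : G} {U : AddSubgroup M} {c : M}

/-- `W_q` acts on `M_p` as `x ↦ x + π [a, b]` -/
theorem GG.smul_add [Finite G] (h : Fr T V z) (md : Md V (y 0) π) (gg : GG V (m + 3) y) {a b : G}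
    (ha : a ∈ ws V (y 0)) (hb : b ∈ ws V (y (m + 3))) :
    (⟨b, gg.cr.symm.cent h hb⟩ : centralizer ({y 0} : Set G)) • π a + π a = π (a * b * a⁻¹ * b⁻¹) := by
  have hp : Col V (y 0) (y 0) := gg.cr.path.left
  have hbc : b ∈ centralizer ({y 0} : Set G) := gg.cr.symm.cent h hb
  have h1 : b * a * b⁻¹ ∈ ws V (y 0) := conj_mem_ws_of_mem hbc ha
  have h2 := gg.cr.comm_mem_left h ha hb
  rw [← md.smul ⟨b, hbc⟩ a ha, ← md.map_mul _ h1 _ ha]
  congr 1
  have e1 : (a * b * a⁻¹ * b⁻¹)⁻¹ = a * b * a⁻¹ * b⁻¹ := inv_eq_of_mul_eq_one_left (h.ws_sq hp _ h2)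
  have e2 : a⁻¹ = a := inv_eq_of_mul_eq_one_left (h.ws_sq hp a ha)
  change b * a * b⁻¹ * a = _
  rw [← e1]
  nth_rewrite 2 [← e2]
  group

/-- `[W_p, W_q] ≤ I_l` -/
theorem GG.comm_mem_ii [Finite G] (h : Fr T V z) (gg : GG V (m + 3) y) (hg : y 0 ∈ cj g V) (hg' : y 1 ∈ cj g V)
    {a b : G} (ha : a ∈ ws V (y 0)) (hb : b ∈ ws V (y (m + 3))) : a * b * a⁻¹ * b⁻¹ ∈ ii (cj g V) :=
  h.mem_ii_cj hg gg.cr.path.left.ne_one hg' gg.col0.symm.ne_one (gg.ne_succ (i := 0) (by omega)).symm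
    (gg.cr.comm_mem_left h ha hb) (gg.le a ha b hb)

/-- **|[W_p, W_q]| = 2** -/
theorem GG.two [Finite G] (h : Fr T V z) (md : Md V (y 0) π) (gg : GG V (m + 3) y) (hg : y 0 ∈ cj g V)
    (hg' : y 1 ∈ cj g V) (hU : ∀ m, m ∈ U ↔ ∃ a ∈ ii (cj g V), π a = m)
    (b : BD (centralizer ({y 0} : Set G)) (π (y 1)) U c)
    (free : ∀ a ∈ ws V (y 0), ∀ b ∈ ws V (y (m + 3)), ¬ Col V (y 0) (a * b * a⁻¹ * b⁻¹)) :
    ∃ r, Two V (y 0) (y (m + 3)) r := by
  have hp : Col V (y 0) (y 0) := gg.cr.path.left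
  have hp1 := hp.ne_one
  have hq1 : y 1 ≠ 1 := gg.col0.symm.ne_one
  have hne : y 1 ≠ y 0 := (gg.ne_succ (i := 0) (by omega)).symm
  have hfin := finite_Md md
  have hs := b.two
  have hcom : NO3S.Pt.Com V (y 1) (y (m + 3)) := gg.com (i := 1) (j := m + 3) (by omega) le_rfl (by omega) (by omega)
  -- the values
  have hval : ∀ a ∈ ws V (y 0), ∀ b' ∈ ws V (y (m + 3)), π (a * b' * a⁻¹ * b'⁻¹) = 0 ∨
      π (a * b' * a⁻¹ * b'⁻¹) = c ∨ π (a * b' * a⁻¹ * b'⁻¹) = c + π (y 1) := by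
    intro a ha b' hb'
    have h1 := b.comm_mem (g := ⟨b', gg.cr.symm.cent h hb'⟩)
      (fun u hu => md.fix_U h hg hg' hq1 hU hcom hb' hp1 hu) (fun w => by
        obtain ⟨a', ha', rfl⟩ := md.surj w
        rw [gg.smul_add h md ha' hb', hU]
        exact ⟨_, gg.comm_mem_ii h hg hg' ha' hb', rfl⟩) (π a)
    rw [gg.smul_add h md ha hb'] at h1
    rcases h1 with h1 | h1 | h1 | h1
    · exact Or.inl h1
    · exact Or.inr (Or.inl h1)
    · exact Or.inr (Or.inr h1)
    · exfalso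
      have hy1 : y 1 ∈ ws V (y 0) := h.mem_ws_of_col gg.col0
      rcases (md.eq_iff h hp (gg.cr.comm_mem_left h ha hb') hy1).1 h1 with e | e
      · exact free a ha b' hb' (by rw [e]; exact gg.col0)
      · refine free a ha b' hb' (Col.of_mem hg ?_ hp1 ?_)
        · rw [e]; exact mul_mem hg hg'
        · rw [e]
          intro e'
          apply hne
          calc y 1 = y 0 * y 0 * y 1 := by rw [h.pt_sq hp, one_mul]
            _ = y 0 := by rw [mul_assoc, e', mul_one]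
  -- `p ∉ R`
  have hp_not : ∀ a ∈ ws V (y 0), ∀ b' ∈ ws V (y (m + 3)), π (a * b' * a⁻¹ * b'⁻¹) = 0 →
      a * b' * a⁻¹ * b'⁻¹ = 1 := by
    intro a ha b' hb' e
    rcases (md.ker _ (gg.cr.comm_mem_left h ha hb')).1 e with e' | e'
    · exact e'
    · exfalso
      apply gg.not_mem
      rw [← e']
      exact gg.cr.comm_mem_right h ha hb'
  by_cases hall : ∀ a ∈ ws V (y 0), ∀ b' ∈ ws V (y (m + 3)), π (a * b' * a⁻¹ * b'⁻¹) = 0
  · exact ⟨1, fun a ha b' hb' => Or.inl (hp_not a ha b' hb' (hall a ha b' hb'))⟩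
  push Not at hall
  obtain ⟨a₁, ha₁, b₁, hb₁, h0⟩ := hall
  refine ⟨a₁ * b₁ * a₁⁻¹ * b₁⁻¹, fun a₂ ha₂ b₂ hb₂ => ?_⟩
  by_cases h0' : π (a₂ * b₂ * a₂⁻¹ * b₂⁻¹) = 0
  · exact Or.inl (hp_not _ ha₂ _ hb₂ h0')
  right
  have hlam : π (y 1) ≠ 0 := md.pt_ne_zero h gg.col0 hne
  -- the values at `(a₁, b₁)` and `(a₂, b₂)` agree
  have key : π (a₂ * b₂ * a₂⁻¹ * b₂⁻¹) = π (a₁ * b₁ * a₁⁻¹ * b₁⁻¹) := by
    have hl1 := fun {a a' b : G} (ha : a ∈ ws V (y 0)) (ha' : a' ∈ ws V (y 0)) (hb : b ∈ ws V (y (m + 3))) =>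
      (congrArg π (Cr.comm_mul_left h gg.cr ha ha' hb)).trans
        (md.map_mul _ (gg.cr.comm_mem_left h ha hb) _ (gg.cr.comm_mem_left h ha' hb))
    have hr1 := fun {a b b' : G} (ha : a ∈ ws V (y 0)) (hb : b ∈ ws V (y (m + 3))) (hb' : b' ∈ ws V (y (m + 3))) =>
      (congrArg π (Cr.comm_mul_right h gg.cr ha hb hb')).trans
        (md.map_mul _ (gg.cr.comm_mem_left h ha hb) _ (gg.cr.comm_mem_left h ha hb'))
    have v12 := hval _ ha₁ _ hb₂
    have v21 := hval _ ha₂ _ hb₁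
    have w1 := hval _ ha₁ _ (mul_mem hb₁ hb₂)
    have w2 := hval _ ha₂ _ (mul_mem hb₁ hb₂)
    have w3 := hval _ (mul_mem ha₁ ha₂) _ hb₁
    have w4 := hval _ (mul_mem ha₁ ha₂) _ hb₂
    have w5 := hval _ (mul_mem ha₁ ha₂) _ (mul_mem hb₁ hb₂)
    have v11 := hval _ ha₁ _ hb₁
    have v22 := hval _ ha₂ _ hb₂
    rw [hl1 ha₁ ha₂ (mul_mem hb₁ hb₂), hr1 ha₁ hb₁ hb₂, hr1 ha₂ hb₁ hb₂] at w5
    rw [hr1 ha₁ hb₁ hb₂] at w1
    rw [hr1 ha₂ hb₁ hb₂] at w2
    rw [hl1 ha₁ ha₂ hb₁] at w3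
    rw [hl1 ha₁ ha₂ hb₂] at w4
    exact bil_aux hs hlam b.c0 (fun e => b.cl 1 (by rw [one_smul, e])) h0 h0' v11 v22 v12 v21 w1 w2 w3 w4 w5
  rcases (md.eq_iff h hp (gg.cr.comm_mem_left h ha₂ hb₂) (gg.cr.comm_mem_left h ha₁ hb₁)).1 key with e | e
  · exact e
  · exfalso
    apply gg.not_mem
    have e' : y 0 = a₂ * b₂ * a₂⁻¹ * b₂⁻¹ * (a₁ * b₁ * a₁⁻¹ * b₁⁻¹)⁻¹ := by rw [e, mul_inv_cancel_right]
    rw [e']
    exact mul_mem (gg.cr.comm_mem_right h ha₂ hb₂) (inv_mem (gg.cr.comm_mem_right h ha₁ hb₁))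

/-- **the blocks** -/
theorem block_of_bd [Finite G] {p p₁ : G} {M : Type v} [AddCommGroup M]
    [DistribMulAction (centralizer ({p} : Set G)) M] {π : G → M} {U : AddSubgroup M} {c : M} (h : Fr T V z)
    (md : Md V p π) (hp : p ∈ cj g V) (hp1 : p ≠ 1) (hU : ∀ m, m ∈ U ↔ ∃ a ∈ ii (cj g V), π a = m)
    (b : BD (centralizer ({p} : Set G)) (π p₁) U c) {r : M} {t : centralizer ({p} : Set G)}
    (ht : ∃ v : M, t • v ≠ v) (ht' : ∀ v : M, t • v = v ∨ t • v = v + r) :
    ∃ B : AddSubgroup M, (∀ c : centralizer ({p} : Set G), c • r = r → ∀ b ∈ B, c • b ∈ B) ∧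
      Nat.card B ≤ (ii V).relIndex (ws V z) ∧
      ∀ v : M, ∃ v₁ ∈ B, ∃ v₂, v = v₁ + v₂ ∧
        ∀ s : centralizer ({p} : Set G), (∀ v : M, s • v = v ∨ s • v = v + r) → s • v₂ = v₂ := by
  have := finite_Md md
  obtain ⟨-, B, -, -, h1, h2, h3⟩ := b.exists_block ⟨ht', ht⟩
  refine ⟨B, h1, ?_, h3⟩
  rw [← md.index_U h hp hp1 hU]
  have h4 := U.card_mul_index
  rw [← h4, mul_comm] at h2
  exact Nat.le_of_mul_le_mul_left h2 Nat.card_pos

end main

end Cfsg.Agent.Omega.NOThree.LL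

end

section


/-!
# THEOREM LL (helper975 #18157), section 5: from a grandchild to the contradiction

* `Gr V m y` : `y` is the geodesic of a child of a child of a GOAL pair; `Gr.child`; `GG.conj`, `Child.conj`, `Gr.conj`;
* `BlockAt V z x M` : the output of section 4 at the point `x` (blocks of transvections);
* `no_gr` : there is no grandchild.
-/

set_option autoImplicit false
set_option linter.unusedSectionVars false

namespace Cfsg.Agent.Omega.NOThree.LL

open Subgroup Cfsg Cfsg.Agent.ZN Cfsg.Agent.MinSimple.Geo Cfsg.Agent.Omega.CaseL Cfsg.Agent.Omega.NO3S.TwoOne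
open Cfsg.Agent.Omega.NO3S.Pt
open Cfsg.Agent.Omega.NOThree.SecOne (Exact ee mem_ee Goal)
open Cfsg.Agent.Omega.NOThree.TF (Md conj_mem_ws_of_mem MM pim md_MM)
open Cfsg.Agent.Omega.NOThree.LemmaM (NoOver)

universe u v

variable {G : Type u} [Group G] {T V : Subgroup G} {z : G} {n m : ℕ} {y : ℕ → G} {x f : G}

/-! ### conjugation -/

theorem mem_ws_conj {g a p : G} : a ∈ ws V (g * p * g⁻¹) ↔ g⁻¹ * a * g ∈ ws V p := by
  rw [← cj_ws, mem_cj]

theorem conj_comm {g a b : G} : g * a * g⁻¹ * (g * b * g⁻¹) * (g * a * g⁻¹)⁻¹ * (g * b * g⁻¹)⁻¹ =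
    g * (a * b * a⁻¹ * b⁻¹) * g⁻¹ := by group

/-- the conjugate of a sequence -/
def cs (g : G) (y : ℕ → G) : ℕ → G := fun i => g * y i * g⁻¹

theorem cs_apply (g : G) (y : ℕ → G) (i : ℕ) : cs g y i = g * y i * g⁻¹ := rfl

theorem cs_ch (g x : G) (y : ℕ → G) : cs g (ch x y) = ch (g * x * g⁻¹) (cs g y) := by
  funext i
  cases i with
  | zero => rfl
  | succ i => rfl

theorem GG.conj (h : GG V n y) (g : G) : GG V n (cs g y) where
  cr := h.cr.conj g
  path := fun i hi => (h.path i hi).conj g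
  not_mem := by
    intro h1
    apply h.not_mem
    rw [cs_apply, cs_apply, mem_ws_conj] at h1
    have e : g⁻¹ * (g * y 0 * g⁻¹) * g = y 0 := by group
    rwa [e] at h1
  not_mem' := by
    intro h1
    apply h.not_mem'
    rw [cs_apply, cs_apply, mem_ws_conj] at h1
    have e : g⁻¹ * (g * y n * g⁻¹) * g = y n := by group
    rwa [e] at h1
  le := by
    intro a ha b hb
    rw [cs_apply, mem_ws_conj] at ha hb ⊢
    have h1 := h.le _ ha _ hb
    have e : g⁻¹ * (a * b * a⁻¹ * b⁻¹) * g =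
        g⁻¹ * a * g * (g⁻¹ * b * g) * (g⁻¹ * a * g)⁻¹ * (g⁻¹ * b * g)⁻¹ := by group
    rwa [e]

theorem Mv.conj (h : Mv V n y x f) (g : G) : Mv V n (cs g y) (g * x * g⁻¹) (g * f * g⁻¹) where
  mem := by
    rw [cs_apply]
    exact conj_mem_ws g h.mem
  col := h.col.conj g
  ne := by
    intro e
    exact h.ne (mul_left_cancel (mul_right_cancel e))
  mv := by
    intro e
    apply h.mv
    have e1 : g * f * g⁻¹ * (g * x * g⁻¹) * (g * f * g⁻¹)⁻¹ = g * (f * x * f⁻¹) * g⁻¹ := by group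
    rw [e1] at e
    exact mul_left_cancel (mul_right_cancel e)
  mv' := by
    intro e
    apply h.mv'
    have e1 : g * f * g⁻¹ * (g * x * g⁻¹) * (g * f * g⁻¹)⁻¹ = g * (f * x * f⁻¹) * g⁻¹ := by group
    have e2 : cs g y 0 * (g * x * g⁻¹) = g * (y 0 * x) * g⁻¹ := by
      rw [cs_apply]; group
    rw [e1, e2] at e
    exact mul_left_cancel (mul_right_cancel e)
  cen := by
    intro u hu hu0 hfu
    rw [cs_apply, mem_ws_conj] at hu0 ⊢
    rw [mem_ws_conj] at hu
    refine h.cen _ hu hu0 ?_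
    calc f * (g⁻¹ * u * g) = g⁻¹ * (g * f * g⁻¹ * u) * g := by group
      _ = g⁻¹ * (u * (g * f * g⁻¹)) * g := by rw [hfu]
      _ = g⁻¹ * u * g * f := by group

theorem DD.conj {p : G} (h : DD V p x f) (g : G) : DD V (g * p * g⁻¹) (g * x * g⁻¹) (g * f * g⁻¹) := by
  intro u hu
  have e1 : g * f * g⁻¹ * (g * x * g⁻¹) * (g * f * g⁻¹)⁻¹ = g * (f * x * f⁻¹) * g⁻¹ := by group
  rw [e1, mem_inf, mem_ws_conj, mem_ws_conj] at hu
  rw [mem_ws_conj]
  exact h ⟨hu.1, hu.2⟩

theorem Child.conj (h : Child V m y x f) (g : G) : Child V m (cs g y) (g * x * g⁻¹) (g * f * g⁻¹) where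
  gg := by
    rw [← cs_ch]
    exact h.gg.conj g
  mv := h.mv.conj g
  low := h.low.conj g

/-! ### grandchildren -/

/-- `y` is the geodesic of a child of a child of a GOAL pair -/
def Gr (V : Subgroup G) (m : ℕ) (y : ℕ → G) : Prop :=
  ∃ (y₀ : ℕ → G) (x f x' f' : G), GG V (m + 3) y₀ ∧ Child V m y₀ x f ∧ Child V m (ch x y₀) x' f' ∧
    y = ch x' (ch x y₀)

theorem Gr.gg (h : Gr V m y) : GG V (m + 3) y := by
  obtain ⟨y₀, x, f, x', f', -, -, h3, rfl⟩ := h
  exact h3.gg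

/-- a child of a grandchild is a grandchild -/
theorem Gr.child (h : Gr V m y) (hc : Child V m y x f) : Gr V m (ch x y) := by
  obtain ⟨y₀, x₀, f₀, x', f', h1, h2, h3, rfl⟩ := h
  exact ⟨ch x₀ y₀, x', f', x, f, h2.gg, h3, hc, rfl⟩

theorem Gr.conj (h : Gr V m y) (g : G) : Gr V m (cs g y) := by
  obtain ⟨y₀, x, f, x', f', h1, h2, h3, rfl⟩ := h
  refine ⟨cs g y₀, g * x * g⁻¹, g * f * g⁻¹, g * x' * g⁻¹, g * f' * g⁻¹, h1.conj g, h2.conj g, ?_, ?_⟩
  · rw [← cs_ch]
    exact h3.conj g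
  · rw [cs_ch, cs_ch]

/-- every point is the first point of a conjugate of the grandchild -/
theorem Gr.exists_at (hf : Fr T V z) (h : Gr V m y) (hx : Col V x x) : ∃ y', Gr V m y' ∧ y' 0 = x := by
  have h0 : Col V (y 0) (y 0) := (h.gg.path 0 (by omega)).left
  obtain ⟨g, hg⟩ := hf.exists_conj h0 hx
  exact ⟨cs g y, h.conj g, hg⟩

/-! ### the blocks -/

/-- the output of section 4 at the point `x` -/
def BlockAt (V : Subgroup G) (z x : G) (M : Type v) [AddCommGroup M]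
    [DistribMulAction (centralizer ({x} : Set G)) M] : Prop :=
  ∀ r : M, r ≠ 0 → ∀ t : centralizer ({x} : Set G), (∃ v : M, t • v ≠ v) → (∀ v : M, t • v = v ∨ t • v = v + r) →
    ∃ B : AddSubgroup M, (∀ c : centralizer ({x} : Set G), c • r = r → ∀ b ∈ B, c • b ∈ B) ∧
      Nat.card B ≤ (ii V).relIndex (ws V z) ∧
      ∀ v : M, ∃ v₁ ∈ B, ∃ v₂ : M, v = v₁ + v₂ ∧
        ∀ s : centralizer ({x} : Set G), (∀ v : M, s • v = v ∨ s • v = v + r) → s • v₂ = v₂

section main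

variable [Finite G]

/-- the setting `Cnt` -/
theorem exists_cnt (hf : Fr T V z)
    (hNO : NoOver (NO3S.TwoFar.inc (V := V)) NO3S.TwoFar.RR NO3S.TwoFar.WS NO3S.TwoFar.VL)
    (gg : GG V (m + 3) y) {r : G} (hr : Two V (y 0) (y (m + 3)) r) {M : Type v} [AddCommGroup M]
    [DistribMulAction (centralizer ({y (m + 3)} : Set G)) M] {π : G → M} (md : Md V (y (m + 3)) π)
    (hB : BlockAt V z (y (m + 3)) M) :
    ∃ B : AddSubgroup M, Cnt T V z m y r M π B ∧ Nat.card B ≤ (ii V).relIndex (ws V z) := by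
  have hq : Col V (y (m + 3)) (y (m + 3)) := (gg.path (m + 2) (show m + 2 < m + 3 by omega)).right
  have wp_le : ws V (y 0) ≤ centralizer ({y (m + 3)} : Set G) := gg.cr.cent hf
  have hex := gg.exact hf hNO
  -- `W_p` acts by transvections with centre `π r`
  have htv : ∀ a : centralizer ({y (m + 3)} : Set G), (a : G) ∈ ws V (y 0) →
      ∀ v : M, a • v = v ∨ a • v = v + π r := by
    intro a ha v
    obtain ⟨b, hb, rfl⟩ := md.surj v
    have h1 : π ((a : G) * b * (a : G)⁻¹) = a • π b := md.smul a b hb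
    rcases hr a ha b hb with e | e
    · left
      rw [← h1]
      congr 1
      exact NO3S.Dual.conj_eq_of_comm (SecOne.comm_of_comm_eq_one e)
    · right
      have hrw : r ∈ ws V (y (m + 3)) := by
        rw [← e]
        exact gg.cr.comm_mem_right hf ha hb
      rw [← h1, ← md.map_mul b hb r hrw]
      congr 1
      have e1 : (a : G) * b * (a : G)⁻¹ = r * b := by rw [← e]; group
      rw [e1, hf.ws_comm hq r hrw b hb]
  -- some `a` moves `M`
  obtain ⟨a, ha, b, hb, hab⟩ : ∃ a ∈ ws V (y 0), ∃ b ∈ ws V (y (m + 3)),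
      ∃ hac : a ∈ centralizer ({y (m + 3)} : Set G),
        (⟨a, hac⟩ : centralizer ({y (m + 3)} : Set G)) • π b ≠ π b := by
    by_contra hcon
    push Not at hcon
    apply gg.cr.ne
    intro a ha b hb
    refine ((mem_ee.1 (hex.cent' b hb fun w hw => ?_)).2 a ha).symm
    have h1 := hcon w hw b hb (wp_le hw)
    rw [← md.smul ⟨w, wp_le hw⟩ b hb, md.eq_iff hf hq (conj_mem_ws_of_mem (wp_le hw) hb) hb] at h1
    rw [mem_zpowers_iff_of_mul_self (hf.pt_sq hq)]
    rcases h1 with e | e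
    · left
      change w * b * w⁻¹ = b at e
      rw [e, mul_inv_cancel]
    · right
      change w * b * w⁻¹ = y (m + 3) * b at e
      rw [e, mul_inv_cancel_right]
  obtain ⟨hac, hab⟩ := hab
  have hr0 : π r ≠ 0 := by
    intro e
    rcases htv ⟨a, hac⟩ ha (π b) with h1 | h1
    · exact hab h1
    · rw [e, add_zero] at h1
      exact hab h1
  obtain ⟨B, hB1, hB2, hB3⟩ := hB (π r) hr0 ⟨a, hac⟩ ⟨π b, hab⟩ (htv _ ha)
  refine ⟨B, ⟨hf, hNO, gg, md, hr, ?_, hB1⟩, hB2⟩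
  rw [eq_top_iff]
  intro v _
  obtain ⟨v₁, hv₁, v₂, rfl, hv₂⟩ := hB3 v
  exact AddSubgroup.mem_sup.2 ⟨v₁, hv₁, v₂, fun s hs => hv₂ s (htv s hs), rfl⟩

/-- **there is no grandchild** -/
theorem no_gr (hf : Fr T V z)
    (hNO : NoOver (NO3S.TwoFar.inc (V := V)) NO3S.TwoFar.RR NO3S.TwoFar.WS NO3S.TwoFar.VL)
    (hB : ∀ y, Gr V m y → BlockAt V z (y 0) (MM V (y 0)))
    (hT : ∀ y, Gr V m y → ∃ r, Two V (y 0) (y (m + 3)) r)
    (hM : ∀ y, Gr V m y → ∀ f ∈ ws V (y (m + 3)), f ∉ ee V (y (m + 3)) (y 0) →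
      ∃ x, Mv V (m + 3) y x f ∧ DD V (y 0) x f) (y : ℕ → G) : ¬ Gr V m y := by
  intro h
  have hq : Col V (y (m + 3)) (y (m + 3)) := (h.gg.path (m + 2) (show m + 2 < m + 3 by omega)).right
  obtain ⟨r, hr⟩ := hT y h
  have key : ∀ x, Col V x x → BlockAt V z x (MM V x) := by
    intro x hx
    obtain ⟨y', h1, rfl⟩ := h.exists_at hf hx
    exact hB y' h1
  have hBq := key _ hq
  have hmd := md_MM hf hq
  obtain ⟨B, hc, hcard⟩ := exists_cnt hf hNO h.gg hr hmd hBq
  have hM' := hM y h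
  have hch' : ∀ x f, Child V m y x f → ∃ r', Two V x (y (m + 2)) r' := by
    intro x f hch
    obtain ⟨r', hr'⟩ := hT (ch x y) (h.child hch)
    exact ⟨r', hr'⟩
  exact Cnt.false hc hcard hM' hch'

end main

end Cfsg.Agent.Omega.NOThree.LL

end

section


/-!
# TwoFar, THEOREM LL (#18157), section 4 for the pairs of `no_gr`

* `TrAt V y` : some element of `W_q` induces on `M_p` a transvection with centre `c ∈ U_λ`, `c` not a line vector
  (the output of THEOREM ONE);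
* `blockAt_of_tr`, `two_of_tr`.
-/

set_option autoImplicit false
set_option linter.unusedSectionVars false

namespace Cfsg.Agent.Omega.NOThree.LL

open Subgroup Cfsg Cfsg.Agent.ZN Cfsg.Agent.MinSimple.Geo Cfsg.Agent.Omega.CaseL Cfsg.Agent.Omega.NO3S.TwoOne
open Cfsg.Agent.Omega.NO3S.Pt
open Cfsg.Agent.Omega.NOThree.TF (Md conj_mem_ws_of_mem MM pim md_MM)

universe u

variable {G : Type u} [Group G] {T V : Subgroup G} {z : G} {m : ℕ} {y : ℕ → G}

/-- the output of THEOREM ONE at `p = y 0`: a transvection in the image of `W_q`, its centre `c ∈ U_λ` is not a line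
vector -/
def TrAt (V : Subgroup G) (m : ℕ) (y : ℕ → G) : Prop :=
  ∃ (g : G) (t : centralizer ({y 0} : Set G)) (c : MM V (y 0)), y 0 ∈ cj g V ∧ y 1 ∈ cj g V ∧
    (t : G) ∈ ws V (y (m + 3)) ∧ Tr c t ∧ (∃ a ∈ ii (cj g V), pim V (y 0) a = c) ∧
    ∀ k : centralizer ({y 0} : Set G), k • pim V (y 0) (y 1) ≠ c

/-- the data of section 4 -/
theorem exists_bd [Finite G] (h : Fr T V z) (gg : GG V (m + 3) y) (ht : TrAt V m y) :
    ∃ (g : G) (U : AddSubgroup (MM V (y 0))) (c : MM V (y 0)), y 0 ∈ cj g V ∧ y 1 ∈ cj g V ∧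
      (∀ m, m ∈ U ↔ ∃ a ∈ ii (cj g V), pim V (y 0) a = m) ∧
      BD (centralizer ({y 0} : Set G)) (pim V (y 0) (y 1)) U c := by
  obtain ⟨g, t, c, hp, hq, htq, htr, hc, hcl⟩ := ht
  have hpp : Col V (y 0) (y 0) := gg.cr.path.left
  have hp1 := hpp.ne_one
  have hq1 := gg.col0.symm.ne_one
  have hmd := md_MM h hpp
  obtain ⟨U, hU⟩ := TF.Md.exists_U h hmd hp hp1
  have hcom : NO3S.Pt.Com V (y 1) (y (m + 3)) := gg.com (i := 1) (j := m + 3) (by omega) le_rfl (by omega) (by omega)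
  refine ⟨g, U, c, hp, hq, hU, bd_of_tr h hmd hp hp1 hq hq1 (gg.ne_succ (i := 0) (by omega)).symm hU ?_ hcl
    ⟨t, htr, fun u hu => hmd.fix_U h hp hq hq1 hU hcom htq hp1 hu⟩⟩
  rw [hU]
  exact hc

/-- **hB** -/
theorem blockAt_of_tr [Finite G] (h : Fr T V z) (gg : GG V (m + 3) y) (ht : TrAt V m y) :
    BlockAt V z (y 0) (MM V (y 0)) := by
  obtain ⟨g, U, c, hp, -, hU, b⟩ := exists_bd h gg ht
  have hpp : Col V (y 0) (y 0) := gg.cr.path.left
  intro r _ t ht ht'
  exact block_of_bd h (md_MM h hpp) hp hpp.ne_one hU b ht ht'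

/-- **hT** -/
theorem two_of_tr [Finite G] (h : Fr T V z) (gg : GG V (m + 3) y) (ht : TrAt V m y)
    (free : ∀ a ∈ ws V (y 0), ∀ b ∈ ws V (y (m + 3)), ¬ Col V (y 0) (a * b * a⁻¹ * b⁻¹)) :
    ∃ r, Two V (y 0) (y (m + 3)) r := by
  obtain ⟨g, U, c, hp, hq, hU, b⟩ := exists_bd h gg ht
  have hpp : Col V (y 0) (y 0) := gg.cr.path.left
  exact GG.two h (md_MM h hpp) gg hp hq hU b free

end Cfsg.Agent.Omega.NOThree.LL

end
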